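import Mathlib
import Cfsg.Agent.Lib.PronormalOddIndex.Two
import Cfsg.Agent.Lib.SL2.Commutant

/-!
The quaternion Sylow 2-subgroup of `SL₂` and its normalizer, in the matrix ring.
-/

set_option autoImplicit false

namespace Cfsg.Agent.Lib.PronormalSp1

open Matrix Cfsg.Agent.Lib.SL2 Cfsg.Agent.Lib.PronormalOddIndex

/-- Two by two matrices. -/
abbrev R2 (F : Type) : Type := Matrix (Fin 2) (Fin 2) F

variable {F : Type} [Field F]

theorem adj_add (A B : R2 F) : adjugate (A + B) = adjugate A + adjugate B := by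
  ext a b; fin_cases a <;> fin_cases b <;> simp [adjugate_fin_two] <;> ring

theorem adj_smul (c : F) (A : R2 F) : adjugate (c • A) = c • adjugate A := by
  ext a b; fin_cases a <;> fin_cases b <;> simp [adjugate_fin_two]

theorem adj_zero : adjugate (0 : R2 F) = 0 := Matrix.adjugate_zero

theorem adj_neg (A : R2 F) : adjugate (-A) = -adjugate A := by
  ext a b; fin_cases a <;> fin_cases b <;> simp [adjugate_fin_two]

theorem adj_sub (A B : R2 F) : adjugate (A - B) = adjugate A - adjugate B := by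
  rw [sub_eq_add_neg, adj_add, adj_neg, sub_eq_add_neg]

theorem adj_adj (A : R2 F) : adjugate (adjugate A) = A := by
  ext a b; fin_cases a <;> fin_cases b <;> simp [adjugate_fin_two]

/-- The adjugate as an additive map. -/
def adjHom : R2 F →+ R2 F := AddMonoidHom.mk' (fun A => adjugate A) adj_add

theorem adj_sum {α : Type*} (s : Finset α) (f : α → R2 F) :
    adjugate (∑ t ∈ s, f t) = ∑ t ∈ s, adjugate (f t) := map_sum adjHom f s

theorem adj_mul_self (A : R2 F) : adjugate A * A = A.det • (1 : R2 F) := adjugate_mul A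

theorem self_mul_adj (A : R2 F) : A * adjugate A = A.det • (1 : R2 F) := mul_adjugate A

theorem smul_one_injective {c d : F} (h : c • (1 : R2 F) = d • 1) : c = d := by
  have := congrArg (fun M : R2 F => M 0 0) h
  simpa using this

theorem eq_zero_of_adj_mul {A B : R2 F} (hA : A.det ≠ 0) (h : adjugate A * B = 0) : B = 0 := by
  have h1 : A * (adjugate A * B) = 0 := by rw [h, mul_zero]
  rw [← mul_assoc, self_mul_adj, smul_mul_assoc, one_mul] at h1
  exact (smul_eq_zero.1 h1).resolve_left hA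

theorem eq_zero_of_mul_left {A B : R2 F} (hA : A.det ≠ 0) (h : A * B = 0) : B = 0 := by
  have h1 : adjugate A * (A * B) = 0 := by rw [h, mul_zero]
  rw [← mul_assoc, adj_mul_self, smul_mul_assoc, one_mul] at h1
  exact (smul_eq_zero.1 h1).resolve_left hA

theorem coe_inv_eq_adj (s : SLtwo F) :
    ((s⁻¹ : SLtwo F) : R2 F) = adjugate (s : R2 F) := Matrix.SpecialLinearGroup.coe_inv s

theorem det_ne_zero (s : SLtwo F) : (s : R2 F).det ≠ 0 := by rw [s.2]; exact one_ne_zero

theorem eq_zero_of_forall_sandwich {B : R2 F}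
    (h : ∀ X : R2 F, adjugate B * X * B = 0) : B = 0 := by
  by_contra hB
  obtain ⟨s, q, hsq⟩ : ∃ s q, B s q ≠ 0 := by
    by_contra hc
    push Not at hc
    exact hB (Matrix.ext hc)
  apply hB
  have key : adjugate B = 0 := by
    ext p r
    have h1 := congrFun (congrFun (h (Matrix.single r s 1)) p) q
    rw [Matrix.mul_apply, Finset.sum_eq_single s] at h1
    · rw [Matrix.mul_single_apply_same] at h1
      simpa [hsq] using h1
    · intro b _ hb
      rw [Matrix.mul_single_apply_of_ne _ _ _ _ _ hb, zero_mul]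
    · exact fun hn => absurd (Finset.mem_univ s) hn
  rw [← adj_adj B, key, adj_zero]

/-- A matrix commuting with two noncommuting matrices is scalar. -/
theorem exists_scalar_of_commute {M X Y : R2 F} (hXY : X * Y ≠ Y * X) (hX : X * M = M * X)
    (hY : Y * M = M * Y) : ∃ c : F, M = c • (1 : R2 F) := by
  by_cases hM : IsScalarMat M
  · obtain ⟨h01, h10, h00⟩ := hM
    refine ⟨M 0 0, Matrix.ext fun a b => ?_⟩
    fin_cases a <;> fin_cases b <;> simp [h01, h10, h00]
  · exact absurd (commute_of_commute hM hX hY) hXY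

/-- The data of a quaternion Sylow subgroup `Q` of order eight inside `SL₂`. -/
structure QCase (Q : Subgroup (SLtwo F)) where
  i : SLtwo F
  j : SLtwo F
  w : SLtwo F
  hi : i ∈ Q
  hj : j ∈ Q
  ii : i * i = -1
  jj : j * j = -1
  ji : j * i = -(i * j)
  neg_mem : (-1 : SLtwo F) ∈ Q
  card : Nat.card Q = 8
  w_val : (w : R2 F) = (2 : F)⁻¹ •
    (1 + (i : R2 F) + (j : R2 F) + (i : R2 F) * (j : R2 F))
  w_norm : w ∈ Subgroup.normalizer (Q : Set (SLtwo F))
  w_cube : w ^ 3 = -1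
  w_not_mem : w ∉ Q
  exists_pow : ∀ n ∈ Subgroup.normalizer (Q : Set (SLtwo F)), ∃ c : ℕ, n * (w ^ c)⁻¹ ∈ Q
  ij_ne : i * j ≠ j * i

variable {Q : Subgroup (SLtwo F)}

theorem QCase.ii' (D : QCase Q) (x : R2 F) :
    (D.i : R2 F) * ((D.i : R2 F) * x) = -x := by
  rw [← mul_assoc, ← Matrix.SpecialLinearGroup.coe_mul, D.ii]
  simp

theorem QCase.jj' (D : QCase Q) (x : R2 F) :
    (D.j : R2 F) * ((D.j : R2 F) * x) = -x := by
  rw [← mul_assoc, ← Matrix.SpecialLinearGroup.coe_mul, D.jj]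
  simp

theorem QCase.ji' (D : QCase Q) (x : R2 F) :
    (D.j : R2 F) * ((D.i : R2 F) * x) = -((D.i : R2 F) * ((D.j : R2 F) * x)) := by
  rw [← mul_assoc, ← mul_assoc, ← Matrix.SpecialLinearGroup.coe_mul, D.ji]
  simp

theorem QCase.ii'' (D : QCase Q) : (D.i : R2 F) * (D.i : R2 F) = -1 := by
  simpa using D.ii' 1

theorem QCase.jj'' (D : QCase Q) : (D.j : R2 F) * (D.j : R2 F) = -1 := by
  simpa using D.jj' 1

theorem QCase.ji'' (D : QCase Q) :
    (D.j : R2 F) * (D.i : R2 F) = -((D.i : R2 F) * (D.j : R2 F)) := by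
  simpa using D.ji' 1

theorem QCase.adj_i (D : QCase Q) : adjugate (D.i : R2 F) = -(D.i : R2 F) := by
  have h : D.i⁻¹ = -D.i := inv_eq_of_mul_eq_one_right (by rw [mul_neg, D.ii, neg_neg])
  rw [← coe_inv_eq_adj, h]; simp

theorem QCase.adj_j (D : QCase Q) : adjugate (D.j : R2 F) = -(D.j : R2 F) := by
  have h : D.j⁻¹ = -D.j := inv_eq_of_mul_eq_one_right (by rw [mul_neg, D.jj, neg_neg])
  rw [← coe_inv_eq_adj, h]; simp

theorem QCase.w_pow_mem (D : QCase Q) {c : ℕ} (h : 3 ∣ c) : D.w ^ c ∈ Q := by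
  obtain ⟨l, rfl⟩ := h
  rw [pow_mul, D.w_cube]
  exact pow_mem D.neg_mem l

theorem QCase.w_pow_norm (D : QCase Q) (c : ℕ) :
    D.w ^ c ∈ Subgroup.normalizer (Q : Set (SLtwo F)) := pow_mem D.w_norm c

theorem QCase.dvd_of_w_pow_mem (D : QCase Q) {c : ℕ} (h : D.w ^ c ∈ Q) : 3 ∣ c := by
  by_contra h3
  apply D.w_not_mem
  have h0 : D.w ^ (c % 3) ∈ Q := by
    have e : D.w ^ c = D.w ^ (3 * (c / 3)) * D.w ^ (c % 3) := by
      rw [← pow_add, Nat.div_add_mod]
    rw [e] at h
    exact (Subgroup.mul_mem_cancel_left Q (D.w_pow_mem (dvd_mul_right _ _))).1 h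
  have h12 : c % 3 = 1 ∨ c % 3 = 2 := by omega
  rcases h12 with h1 | h1 <;> rw [h1] at h0
  · simpa using h0
  · have h4 : D.w ^ 4 ∈ Q := by simpa [← pow_mul] using pow_mem h0 2
    have e : D.w ^ 4 = D.w ^ 3 * D.w := pow_succ _ _
    rw [e] at h4
    exact (Subgroup.mul_mem_cancel_left Q (D.w_pow_mem dvd_rfl)).1 h4

theorem QCase.conj_w_mem (D : QCase Q) {n : SLtwo F}
    (hn : n ∈ Subgroup.normalizer (Q : Set (SLtwo F))) : n * D.w * n⁻¹ * D.w⁻¹ ∈ Q := by
  obtain ⟨c, hc⟩ := D.exists_pow n hn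
  set q := n * (D.w ^ c)⁻¹ with hq
  have e : n * D.w * n⁻¹ * D.w⁻¹ = q * (D.w * q⁻¹ * D.w⁻¹) := by
    have e1 : D.w ^ c * D.w * (D.w ^ c)⁻¹ = D.w := by
      rw [← pow_succ, pow_succ']; group
    have hn' : n = q * D.w ^ c := by rw [hq]; group
    rw [hn', show q * D.w ^ c * D.w * (q * D.w ^ c)⁻¹ * D.w⁻¹ =
      q * (D.w ^ c * D.w * (D.w ^ c)⁻¹) * q⁻¹ * D.w⁻¹ by group, e1]
    group
  rw [e]
  exact mul_mem hc ((Subgroup.mem_normalizer_iff.1 D.w_norm _).1 (inv_mem hc))

/-- The normalizer modulo `Q` is abelian. -/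
theorem QCase.comm_mem (D : QCase Q) {m n : SLtwo F}
    (hm : m ∈ Subgroup.normalizer (Q : Set (SLtwo F)))
    (hn : n ∈ Subgroup.normalizer (Q : Set (SLtwo F))) : m * n * m⁻¹ * n⁻¹ ∈ Q := by
  set N := Subgroup.normalizer (Q : Set (SLtwo F)) with hN
  haveI : (Q.subgroupOf N).Normal := Subgroup.normal_in_normalizer
  let π := QuotientGroup.mk' (Q.subgroupOf N)
  have key : ∀ x : N, ∃ c : ℕ, π x = π ⟨D.w, D.w_norm⟩ ^ c := fun x => by
    obtain ⟨c, hc⟩ := D.exists_pow x x.2
    refine ⟨c, ?_⟩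
    rw [← map_pow]
    refine (QuotientGroup.eq_iff_div_mem).2 ?_
    rw [Subgroup.mem_subgroupOf, div_eq_mul_inv]
    simpa using hc
  obtain ⟨c, hc⟩ := key ⟨m, hm⟩
  obtain ⟨d, hd⟩ := key ⟨n, hn⟩
  have h : (⟨m, hm⟩ * ⟨n, hn⟩ * ⟨m, hm⟩⁻¹ * ⟨n, hn⟩⁻¹ : N) ∈ Q.subgroupOf N := by
    rw [← QuotientGroup.eq_one_iff]
    show π _ = 1
    simp only [map_mul, map_inv, hc, hd]
    rw [mul_inv_eq_one, mul_inv_eq_iff_eq_mul, ← pow_add, ← pow_add, add_comm]
  simpa [Subgroup.mem_subgroupOf] using h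

theorem QCase.sandwich (D : QCase Q) (h2 : (2 : F) ≠ 0) {B : R2 F}
    (h1 : adjugate B * B = 0) (hi : adjugate B * (D.i : R2 F) * B = 0)
    (hj : adjugate B * (D.j : R2 F) * B = 0)
    (hk : adjugate B * ((D.i : R2 F) * (D.j : R2 F)) * B = 0) : B = 0 := by
  refine eq_zero_of_forall_sandwich fun X => ?_
  set i : R2 F := (D.i : R2 F) with hi'
  set j : R2 F := (D.j : R2 F) with hj'
  let T : R2 F → R2 F := fun M => M - i * M * i - j * M * j - i * j * M * (i * j)
  have hij : i * j ≠ j * i := fun h => D.ij_ne (Subtype.ext (by simpa [hi', hj'] using h))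
  have hT : ∀ M, ∃ c : F, T M = c • (1 : R2 F) := fun M => by
    refine exists_scalar_of_commute hij ?_ ?_
    · simp only [T, hi', hj']
      simp only [mul_sub, sub_mul, mul_assoc, D.ii', D.jj', D.ji', D.ii'', D.jj'', D.ji'',
        mul_neg, neg_mul, neg_neg, mul_one]
      abel
    · simp only [T, hi', hj']
      simp only [mul_sub, sub_mul, mul_assoc, D.ii', D.jj', D.ji', D.ii'', D.jj'', D.ji'',
        mul_neg, neg_mul, neg_neg, mul_one]
      abel
  have e : (4 : F) • X = T X - i * T (i * X) - j * T (j * X) - i * j * T (i * j * X) := by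
    simp only [T, hi', hj']
    simp only [mul_sub, sub_mul, mul_assoc, D.ii', D.jj', D.ji', D.ii'', D.jj'', D.ji'',
      mul_neg, neg_mul, neg_neg, mul_one]
    module
  obtain ⟨c0, e0⟩ := hT X
  obtain ⟨c1, e1⟩ := hT (i * X)
  obtain ⟨c2, e2⟩ := hT (j * X)
  obtain ⟨c3, e3⟩ := hT (i * j * X)
  rw [e0, e1, e2, e3] at e
  have h4 : (4 : F) • (adjugate B * X * B) = 0 := by
    rw [← smul_mul_assoc, ← mul_smul_comm, e]
    simp only [mul_sub, sub_mul, mul_smul_comm, smul_mul_assoc, mul_one, h1, hi, hj, hk,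
      smul_zero, sub_zero]
  have : (4 : F) ≠ 0 := by
    rw [show (4 : F) = 2 * 2 by norm_num]; exact mul_ne_zero h2 h2
  exact (smul_eq_zero.1 h4).resolve_left this

theorem QCase.eq_one_or (D : QCase Q) {n : SLtwo F} (hi : n * D.i = D.i * n)
    (hj : n * D.j = D.j * n) : n = 1 ∨ n = -1 := by
  have hij : (D.i : R2 F) * (D.j : R2 F) ≠ (D.j : R2 F) * (D.i : R2 F) :=
    fun h => D.ij_ne (Subtype.ext (by simpa using h))
  obtain ⟨c, hc⟩ := exists_scalar_of_commute hij (M := (n : R2 F))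
    (by simpa using (congrArg Subtype.val hi).symm) (by simpa using (congrArg Subtype.val hj).symm)
  have hd := n.2
  rw [hc, Matrix.det_smul, Matrix.det_one, mul_one, Fintype.card_fin] at hd
  rcases mul_self_eq_one_iff.1 (by rwa [sq] at hd) with rfl | rfl
  · left; exact Subtype.ext (by simpa using hc)
  · right; exact Subtype.ext (by simpa using hc)

/-- The two cases for a Sylow 2-subgroup of `SL₂`. -/
theorem qcase_or [Fintype F] (hodd : Odd (Fintype.card F)) (S : Sylow 2 (SLtwo F)) :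
    Subgroup.normalizer ((S : Subgroup (SLtwo F)) : Set (SLtwo F)) = (S : Subgroup (SLtwo F)) ∨
      Nonempty (QCase (S : Subgroup (SLtwo F))) := by
  classical
  haveI : Fact (Nat.Prime 2) := ⟨Nat.prime_two⟩
  have h2 : (2 : F) ≠ 0 := two_ne_zero_iff_odd.2 hodd
  obtain ⟨-, hN | ⟨h24, ⟨e⟩⟩⟩ := sl2_facts hodd S
  · exact Or.inl hN
  refine Or.inr ?_
  set a : QuaternionGroup 2 := .a 1 with ha
  set b : QuaternionGroup 2 := .xa 0 with hb
  set I : SLtwo F := (e.symm a : SLtwo F) with hI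
  set J : SLtwo F := (e.symm b : SLtwo F) with hJ
  have q1 : a * a = b * b ∧ b * a = a * a * (a * b) ∧ a * a ≠ 1 ∧ (a * a) * (a * a) = 1 ∧
      a * b ≠ b * a := by decide
  have q2 : ∀ x : QuaternionGroup 2, ∃ m : Fin 4, ∃ l : Fin 2, x = a ^ (m : ℕ) * b ^ (l : ℕ) := by
    decide
  obtain ⟨qa, qb, qc, qd, qe⟩ := q1
  have hinj : ∀ x y : QuaternionGroup 2, (e.symm x : SLtwo F) = e.symm y → x = y :=
    fun x y h => e.symm.injective (Subtype.ext h)
  have hm : ∀ x y : QuaternionGroup 2,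
      (e.symm (x * y) : SLtwo F) = (e.symm x : SLtwo F) * e.symm y := fun x y => by
    rw [map_mul]; rfl
  have hone : (e.symm 1 : SLtwo F) = 1 := by rw [map_one]; rfl
  have hII : I * I = -1 := by
    have h4 : (I * I) * (I * I) = 1 := by rw [← hm, ← hm, qd, hone]
    rcases (mem_center_iff_eq _).1 (mem_center_of_mul_self h2 h4) with h | h
    · exact absurd (hinj (a * a) 1 (by rw [hm, hone]; exact h)) qc
    · exact h
  have hJJ : J * J = -1 := by rw [← hII, hJ, ← hm, ← qa, hm]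
  have hneg : (-1 : SLtwo F) ∈ (S : Subgroup (SLtwo F)) := by
    rw [← hII]; exact mul_mem (e.symm a).2 (e.symm a).2
  have hJI : J * I = -(I * J) := by
    rw [hJ, hI, ← hm, qb, hm, hm, ← hI, ← hJ, hII, neg_one_mul, hm]
  have hIJ : I * J ≠ J * I := fun h => qe (hinj _ _ (by rw [hm, hm]; exact h))
  have h8 : Nat.card (S : Subgroup (SLtwo F)) = 8 := by
    rw [Nat.card_congr e.toEquiv, Nat.card_eq_fintype_card, QuaternionGroup.card]
  have ci : (I : R2 F) * (I : R2 F) = -1 := by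
    simpa using congrArg Subtype.val hII
  have cj : (J : R2 F) * (J : R2 F) = -1 := by
    simpa using congrArg Subtype.val hJJ
  have cji : (J : R2 F) * (I : R2 F) = -((I : R2 F) * (J : R2 F)) := by
    simpa using congrArg Subtype.val hJI
  have ci' : ∀ x : R2 F, (I : R2 F) * ((I : R2 F) * x) = -x := fun x => by
    rw [← mul_assoc, ci, neg_one_mul]
  have cj' : ∀ x : R2 F, (J : R2 F) * ((J : R2 F) * x) = -x := fun x => by
    rw [← mul_assoc, cj, neg_one_mul]
  have cji' : ∀ x : R2 F,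
      (J : R2 F) * ((I : R2 F) * x) = -((I : R2 F) * ((J : R2 F) * x)) := fun x => by
    rw [← mul_assoc, cji, neg_mul, mul_assoc]
  have ai : adjugate (I : R2 F) = -(I : R2 F) := by
    have h : I⁻¹ = -I := inv_eq_of_mul_eq_one_right (by rw [mul_neg, hII, neg_neg])
    rw [← coe_inv_eq_adj, h]; simp
  have aj : adjugate (J : R2 F) = -(J : R2 F) := by
    have h : J⁻¹ = -J := inv_eq_of_mul_eq_one_right (by rw [mul_neg, hJJ, neg_neg])
    rw [← coe_inv_eq_adj, h]; simp
  set M : R2 F := (2 : F)⁻¹ • (1 + (I : R2 F) + (J : R2 F) + (I : R2 F) * (J : R2 F)) with hM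
  have hh : (2 : F)⁻¹ * 2 = 1 := inv_mul_cancel₀ h2
  have hnorm : adjugate M * M = 1 := by
    rw [hM, adj_smul, adj_add, adj_add, adj_add, Matrix.adjugate_one, adjugate_mul_distrib, ai, aj]
    simp only [mul_add, add_mul, smul_mul_assoc, mul_smul_comm, mul_neg, neg_mul, mul_assoc,
      one_mul, mul_one, neg_neg, ci', cj', cji', ci, cj, cji, smul_smul]
    match_scalars <;> field_simp <;> ring
  have hdet : M.det = 1 := smul_one_injective (by rw [← adj_mul_self, hnorm, one_smul])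
  set W : SLtwo F := ⟨M, hdet⟩ with hW
  have hWI : W * I = J * W := by
    apply Subtype.ext
    show M * (I : R2 F) = (J : R2 F) * M
    rw [hM]
    simp only [mul_add, add_mul, smul_mul_assoc, mul_smul_comm, mul_neg, neg_mul, mul_assoc,
      one_mul, mul_one, neg_neg, ci', cj', cji', ci, cj, cji]
    module
  have hWJ : W * J = I * J * W := by
    apply Subtype.ext
    show M * (J : R2 F) = (I : R2 F) * (J : R2 F) * M
    rw [hM]
    simp only [mul_add, add_mul, smul_mul_assoc, mul_smul_comm, mul_neg, neg_mul, mul_assoc,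
      one_mul, mul_one, neg_neg, ci', cj', cji', ci, cj, cji]
    module
  have hW3 : W ^ 3 = -1 := by
    apply Subtype.ext
    rw [pow_succ, pow_two]
    show M * M * M = _
    rw [hM]
    simp only [mul_add, add_mul, smul_mul_assoc, mul_smul_comm, mul_neg, neg_mul, mul_assoc,
      one_mul, mul_one, neg_neg, ci', cj', cji', ci, cj, cji, smul_smul, smul_add, smul_neg]
    simp only [Matrix.SpecialLinearGroup.coe_neg, Matrix.SpecialLinearGroup.coe_one]
    match_scalars <;> field_simp <;> ring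
  have hIS : I ∈ (S : Subgroup (SLtwo F)) := (e.symm a).2
  have hJS : J ∈ (S : Subgroup (SLtwo F)) := (e.symm b).2
  have hgen : ∀ q ∈ (S : Subgroup (SLtwo F)), ∃ m l : ℕ, q = I ^ m * J ^ l := fun q hq => by
    obtain ⟨m, l, hml⟩ := q2 (e ⟨q, hq⟩)
    refine ⟨m, l, ?_⟩
    have := congrArg (fun x => (e.symm x : SLtwo F)) hml
    simp only [e.symm_apply_apply, map_mul, map_pow, Subgroup.coe_mul, SubmonoidClass.coe_pow] at this
    exact this
  have hWn : W ∈ Subgroup.normalizer ((S : Subgroup (SLtwo F)) : Set (SLtwo F)) := by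
    refine mem_normalizer_of_forall fun q hq => ?_
    obtain ⟨m, l, rfl⟩ := hgen q hq
    rw [show W * (I ^ m * J ^ l) * W⁻¹ = (W * I ^ m * W⁻¹) * (W * J ^ l * W⁻¹) by group,
      ← conj_pow, ← conj_pow, mul_inv_eq_of_eq_mul hWI, mul_inv_eq_of_eq_mul hWJ]
    exact mul_mem (pow_mem hJS _) (pow_mem (mul_mem hIS hJS) _)
  have hWS : W ∉ (S : Subgroup (SLtwo F)) := fun h => by
    have h4 : W ^ 4 = 1 := by
      have := q8_pow_four (e ⟨W, h⟩)
      rw [← map_pow, ← map_one e, e.injective.eq_iff] at this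
      exact congrArg Subtype.val this
    rw [pow_succ, hW3, neg_one_mul] at h4
    have hW1 : W = -1 := by rw [← h4, neg_neg]
    rw [hW1, neg_one_mul, mul_neg, mul_one, neg_inj] at hWI
    exact hIJ (by rw [hWI])
  set L : Subgroup (SLtwo F) := (S : Subgroup (SLtwo F)) ⊔ Subgroup.zpowers W with hL
  have hLN : L ≤ Subgroup.normalizer ((S : Subgroup (SLtwo F)) : Set (SLtwo F)) :=
    sup_le Subgroup.le_normalizer (Subgroup.zpowers_le.2 hWn)
  have hL24 : Nat.card L = 24 := by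
    have hd := Subgroup.card_dvd_of_le hLN
    rw [h24] at hd
    have h8L : 8 ∣ Nat.card L := h8 ▸ Subgroup.card_dvd_of_le le_sup_left
    have hne : Nat.card L ≠ 8 := fun h => hWS (by
      have : (S : Subgroup (SLtwo F)) = L :=
        Subgroup.eq_of_le_of_card_ge le_sup_left (by rw [h, h8])
      rw [this]
      exact (le_sup_right : Subgroup.zpowers W ≤ L) (Subgroup.mem_zpowers W))
    have hb := Nat.le_of_dvd (by norm_num) hd
    obtain ⟨c, hc⟩ := h8L
    have : c = 0 ∨ c = 1 ∨ c = 2 ∨ c = 3 := by omega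
    rcases this with rfl | rfl | rfl | rfl
    · exact absurd hc (by have := Nat.card_pos (α := L); omega)
    · omega
    · rw [hc] at hd; norm_num at hd
    · omega
  have hNL : Subgroup.normalizer ((S : Subgroup (SLtwo F)) : Set (SLtwo F)) = L :=
    (Subgroup.eq_of_le_of_card_ge hLN (by rw [hL24, h24])).symm
  have hex : ∀ n ∈ Subgroup.normalizer ((S : Subgroup (SLtwo F)) : Set (SLtwo F)),
      ∃ c : ℕ, n * (W ^ c)⁻¹ ∈ (S : Subgroup (SLtwo F)) := by
    intro n hn
    rw [hNL, hL, ← SetLike.mem_coe, Subgroup.coe_mul_of_right_le_normalizer_left _ _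
      (Subgroup.zpowers_le.2 hWn)] at hn
    obtain ⟨q, hq, z, hz, rfl⟩ := hn
    obtain ⟨c, rfl⟩ := mem_powers_iff_mem_zpowers.2 hz
    exact ⟨c, by rw [mul_inv_cancel_right]; exact hq⟩
  exact ⟨⟨I, J, W, hIS, hJS, hII, hJJ, hJI, hneg, h8, rfl, hWn, hW3, hWS, hex, hIJ⟩⟩

end Cfsg.Agent.Lib.PronormalSp1
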