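import Mathlib
import Cfsg.Agent.Lib.PronormalSp1.Quat

/-!
The symplectic group as the unitary group over the ring of two by two matrices,
unit columns and the embedded copies of `SL₂`.
-/

set_option autoImplicit false

namespace Cfsg.Agent.Lib.PronormalSp1

open Matrix Cfsg.Agent.Lib.SL2

variable {F : Type} [Field F] {ι : Type}

/-- The adjoint for the standard hermitian form over two by two matrices. -/
def dag (M : Matrix ι ι (R2 F)) : Matrix ι ι (R2 F) := fun a b => adjugate (M b a)

theorem dag_dag (M : Matrix ι ι (R2 F)) : dag (dag M) = M := by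
  ext1 a b; exact adj_adj _

/-- The right action of scalars on columns. -/
def sc (v : ι → R2 F) (C : R2 F) : ι → R2 F := fun t => v t * C

theorem sc_sc (v : ι → R2 F) (C D : R2 F) : sc (sc v C) D = sc v (C * D) := by
  funext t; exact mul_assoc _ _ _

theorem sc_one (v : ι → R2 F) : sc v 1 = v := by funext t; exact mul_one _

variable [Fintype ι]

theorem dag_mul (M N : Matrix ι ι (R2 F)) : dag (M * N) = dag N * dag M := by
  ext1 a b
  show adjugate ((M * N) b a) = _
  rw [Matrix.mul_apply, adj_sum, Matrix.mul_apply]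
  exact Finset.sum_congr rfl fun t _ => adjugate_mul_distrib _ _

/-- The hermitian form. -/
def herm (v w : ι → R2 F) : R2 F := ∑ t, adjugate (v t) * w t

theorem adj_herm (v w : ι → R2 F) : adjugate (herm v w) = herm w v := by
  rw [herm, adj_sum]
  exact Finset.sum_congr rfl fun t _ => by rw [adjugate_mul_distrib, adj_adj]

theorem herm_add (v w w' : ι → R2 F) : herm v (w + w') = herm v w + herm v w' := by
  simp [herm, mul_add, Finset.sum_add_distrib]

theorem herm_sc (v w : ι → R2 F) (C : R2 F) : herm v (sc w C) = herm v w * C := by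
  simp [herm, sc, Finset.sum_mul, mul_assoc]

theorem herm_sc_left (v w : ι → R2 F) (C : R2 F) :
    herm (sc v C) w = adjugate C * herm v w := by
  simp [herm, sc, Finset.mul_sum, adjugate_mul_distrib, mul_assoc]

theorem mulVec_sc (M : Matrix ι ι (R2 F)) (v : ι → R2 F) (C : R2 F) :
    M *ᵥ sc v C = sc (M *ᵥ v) C := by
  funext t; simp [Matrix.mulVec, dotProduct, sc, Finset.sum_mul, mul_assoc]

theorem herm_mulVec (M : Matrix ι ι (R2 F)) (v w : ι → R2 F) :
    herm (M *ᵥ v) w = herm v (dag M *ᵥ w) := by
  simp only [herm, Matrix.mulVec, dotProduct, dag, adj_sum, adjugate_mul_distrib,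
    Finset.sum_mul, Finset.mul_sum, mul_assoc]
  exact Finset.sum_comm

/-- Unit columns. -/
abbrev UV (F : Type) [Field F] (ι : Type) [Fintype ι] : Type :=
  {v : ι → R2 F // herm v v = 1}

variable [DecidableEq ι]

theorem dag_one : dag (1 : Matrix ι ι (R2 F)) = 1 := by
  ext1 a b
  show adjugate ((1 : Matrix ι ι (R2 F)) b a) = _
  rcases eq_or_ne a b with rfl | h
  · simp
  · simp [h, h.symm]

theorem ext_mulVec {M N : Matrix ι ι (R2 F)} (h : ∀ z, M *ᵥ z = N *ᵥ z) : M = N := by
  ext1 a b
  simpa [Matrix.mulVec_single] using congrFun (h (Pi.single b 1)) a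

variable (F ι) in
/-- The symplectic group in quaternion coordinates. -/
def SpQ : Subgroup (Matrix ι ι (R2 F))ˣ where
  carrier := {g | dag g.val * g.val = 1}
  one_mem' := by simp [dag_one]
  mul_mem' := by
    intro g h hg hh
    simp only [Set.mem_setOf_eq, Units.val_mul, dag_mul] at hg hh ⊢
    rw [mul_assoc, ← mul_assoc (dag g.val), hg, one_mul, hh]
  inv_mem' := by
    intro g hg
    have h1 : dag g.val = (g⁻¹).val := by
      calc dag g.val = dag g.val * (g.val * (g⁻¹).val) := by rw [Units.mul_inv, mul_one]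
        _ = _ := by rw [← mul_assoc, hg, one_mul]
    show dag (g⁻¹).val * (g⁻¹).val = 1
    rw [← h1, dag_dag, h1, Units.mul_inv]

theorem dag_eq_inv (g : SpQ F ι) : dag g.1.val = (g⁻¹).1.val := by
  calc dag g.1.val = dag g.1.val * (g.1.val * (g.1⁻¹).val) := by rw [Units.mul_inv, mul_one]
    _ = _ := by rw [← mul_assoc, g.2, one_mul]; rfl

/-- The action on columns. -/
def app (g : SpQ F ι) (z : ι → R2 F) : ι → R2 F := g.1.val *ᵥ z

theorem app_mul (g h : SpQ F ι) (z : ι → R2 F) : app (g * h) z = app g (app h z) :=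
  (Matrix.mulVec_mulVec z g.1.val h.1.val).symm

theorem app_one (z : ι → R2 F) : app (1 : SpQ F ι) z = z := Matrix.one_mulVec z

theorem app_add (g : SpQ F ι) (z z' : ι → R2 F) : app g (z + z') = app g z + app g z' :=
  Matrix.mulVec_add _ _ _

theorem app_sc (g : SpQ F ι) (z : ι → R2 F) (C : R2 F) : app g (sc z C) = sc (app g z) C :=
  mulVec_sc _ _ _

theorem app_inv_app (g : SpQ F ι) (z : ι → R2 F) : app g⁻¹ (app g z) = z := by
  rw [← app_mul, inv_mul_cancel, app_one]

theorem app_app_inv (g : SpQ F ι) (z : ι → R2 F) : app g (app g⁻¹ z) = z := by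
  rw [← app_mul, mul_inv_cancel, app_one]

theorem herm_app (g : SpQ F ι) (v w : ι → R2 F) : herm (app g v) (app g w) = herm v w := by
  rw [app, app, herm_mulVec, Matrix.mulVec_mulVec, g.2, Matrix.one_mulVec]

theorem spq_ext {g h : SpQ F ι} (e : ∀ z, app g z = app h z) : g = h :=
  Subtype.ext (Units.ext (ext_mulVec e))

instance : MulAction (SpQ F ι) (UV F ι) where
  smul g v := ⟨app g v.1, (herm_app g _ _).trans v.2⟩
  one_smul v := Subtype.ext (app_one _)
  mul_smul g h v := Subtype.ext (app_mul g h _)

theorem smul_val (g : SpQ F ι) (v : UV F ι) : (g • v).1 = app g v.1 := rfl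

theorem herm_single (a : ι) (x : R2 F) (z : ι → R2 F) :
    herm (Pi.single a x) z = adjugate x * z a := by
  rw [herm, Finset.sum_eq_single a]
  · simp
  · intro b _ hb; simp [hb]
  · simp

theorem herm_right_single (a : ι) (x : R2 F) (z : ι → R2 F) :
    herm z (Pi.single a x) = adjugate (z a) * x := by
  rw [← adj_herm, herm_single, adjugate_mul_distrib, adj_adj]

/-- The standard unit columns. -/
def E (a : ι) : UV F ι := ⟨Pi.single a 1, by simp [herm_single]⟩

theorem E_val (a : ι) : (E (F := F) a).1 = Pi.single a 1 := rfl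

theorem herm_E (a : ι) (z : ι → R2 F) : herm (E a).1 z = z a := by
  simp [E_val, herm_single]

theorem herm_E_right (a : ι) (z : ι → R2 F) : herm z (E a).1 = adjugate (z a) := by
  simp [E_val, herm_right_single]

theorem sc_E (a : ι) (x : R2 F) : sc (E a).1 x = Pi.single a x := by
  funext t
  rcases eq_or_ne t a with rfl | h
  · simp [sc, E_val]
  · simp [sc, E_val, h]

theorem app_single (g : SpQ F ι) (a : ι) (x : R2 F) :
    app g (Pi.single a x) = sc (g • E a : UV F ι).1 x := by
  rw [← sc_E, app_sc]; rfl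

theorem app_eq_sum (g : SpQ F ι) (z : ι → R2 F) :
    app g z = ∑ t, sc (g • E t : UV F ι).1 (z t) := by
  conv_lhs => rw [show z = ∑ t, Pi.single t (z t) from (Finset.univ_sum_single z).symm]
  simp only [← app_single]
  exact Matrix.mulVec_sum _ _ _

theorem ext_E {g h : SpQ F ι} (e : ∀ t, (g • E t : UV F ι) = h • E t) : g = h :=
  spq_ext fun z => by simp only [app_eq_sum, e]

theorem E_injective [Nontrivial (R2 F)] : Function.Injective (E (F := F) (ι := ι)) := by
  intro a b h
  by_contra hne
  have := congrFun (congrArg Subtype.val h) a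
  simp [E_val, hne] at this

/-- Right multiplication of unit columns by `SL₂`. -/
def rmul (v : UV F ι) (C : SLtwo F) : UV F ι :=
  ⟨sc v.1 (C : R2 F), by
    rw [herm_sc, herm_sc_left, v.2, mul_one, adj_mul_self, C.2, one_smul]⟩

theorem rmul_val (v : UV F ι) (C : SLtwo F) : (rmul v C).1 = sc v.1 (C : R2 F) := rfl

theorem rmul_rmul (v : UV F ι) (C D : SLtwo F) : rmul (rmul v C) D = rmul v (C * D) :=
  Subtype.ext (sc_sc _ _ _)

theorem rmul_one (v : UV F ι) : rmul v 1 = v := Subtype.ext (sc_one _)

theorem smul_rmul (g : SpQ F ι) (v : UV F ι) (C : SLtwo F) :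
    g • rmul v C = rmul (g • v) C := Subtype.ext (app_sc g _ _)

theorem rmul_injective (v : UV F ι) : Function.Injective (rmul v) := fun C D h => by
  have h1 := congrArg (fun u : UV F ι => herm v.1 u.1) h
  simp only [rmul_val, herm_sc, v.2, one_mul] at h1
  exact Subtype.ext h1

theorem rmul_E_val (a : ι) (C : SLtwo F) :
    (rmul (E a) C).1 = Pi.single a (C : R2 F) := sc_E a _

/-- The matrix of an element of `SL₂` acting on the plane of a unit column. -/
def phiMat (v : ι → R2 F) (A : R2 F) : Matrix ι ι (R2 F) :=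
  1 + Matrix.of fun a b => v a * (A - 1) * adjugate (v b)

theorem phiMat_mulVec (v z : ι → R2 F) (A : R2 F) :
    phiMat v A *ᵥ z = z + sc v ((A - 1) * herm v z) := by
  rw [phiMat, Matrix.add_mulVec, Matrix.one_mulVec]
  congr 1
  funext t
  simp [Matrix.mulVec, dotProduct, sc, herm, Finset.mul_sum, mul_assoc]

theorem phiMat_mul (v : UV F ι) (A B : R2 F) :
    phiMat v.1 A * phiMat v.1 B = phiMat v.1 (A * B) := by
  refine ext_mulVec fun z => ?_
  rw [← Matrix.mulVec_mulVec, phiMat_mulVec, phiMat_mulVec, phiMat_mulVec, herm_add, herm_sc,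
    v.2, one_mul]
  funext t
  simp only [Pi.add_apply, sc]
  noncomm_ring

theorem phiMat_one (v : ι → R2 F) : phiMat v (1 : R2 F) = 1 := by
  refine ext_mulVec fun z => ?_
  rw [phiMat_mulVec, Matrix.one_mulVec, sub_self, zero_mul]
  funext t; simp [sc]

theorem dag_phiMat (v : ι → R2 F) (A : R2 F) : dag (phiMat v A) = phiMat v (adjugate A) := by
  ext1 a b
  show adjugate (phiMat v A b a) = _
  simp only [phiMat, Matrix.add_apply, Matrix.of_apply, adj_add, adjugate_mul_distrib, adj_adj,
    adj_sub, Matrix.adjugate_one, mul_assoc]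
  congr 1
  rcases eq_or_ne a b with rfl | h
  · simp
  · simp [h, h.symm]

/-- The copy of `SL₂` on the plane of a unit column. -/
def Phi (v : UV F ι) : SLtwo F →* SpQ F ι where
  toFun A :=
    ⟨{ val := phiMat v.1 (A : R2 F)
       inv := phiMat v.1 ((A⁻¹ : SLtwo F) : R2 F)
       val_inv := by
        rw [phiMat_mul, ← Matrix.SpecialLinearGroup.coe_mul, mul_inv_cancel,
          Matrix.SpecialLinearGroup.coe_one, phiMat_one]
       inv_val := by
        rw [phiMat_mul, ← Matrix.SpecialLinearGroup.coe_mul, inv_mul_cancel,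
          Matrix.SpecialLinearGroup.coe_one, phiMat_one] }, by
      show dag (phiMat v.1 (A : R2 F)) * phiMat v.1 (A : R2 F) = 1
      rw [dag_phiMat, ← coe_inv_eq_adj, phiMat_mul, ← Matrix.SpecialLinearGroup.coe_mul,
        inv_mul_cancel, Matrix.SpecialLinearGroup.coe_one, phiMat_one]⟩
  map_one' := Subtype.ext (Units.ext (phiMat_one _))
  map_mul' A B := Subtype.ext (Units.ext (phiMat_mul v _ _).symm)

theorem app_phi (v : UV F ι) (A : SLtwo F) (z : ι → R2 F) :
    app (Phi v A) z = z + sc v.1 (((A : R2 F) - 1) * herm v.1 z) := phiMat_mulVec _ _ _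

theorem phi_smul_self (v : UV F ι) (A : SLtwo F) : Phi v A • v = rmul v A := by
  apply Subtype.ext
  rw [smul_val, app_phi, v.2, mul_one, rmul_val]
  funext t; simp [sc, mul_sub]

theorem phi_injective (v : UV F ι) : Function.Injective (Phi v) := fun A B h => by
  refine rmul_injective v ?_
  rw [← phi_smul_self, ← phi_smul_self, h]

theorem phi_fix (v : UV F ι) (A : SLtwo F) {z : ι → R2 F} (h : herm v.1 z = 0) :
    app (Phi v A) z = z := by
  rw [app_phi, h, mul_zero]; funext t; simp [sc]

theorem phi_conj (g : SpQ F ι) (v : UV F ι) (A : SLtwo F) :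
    g * Phi v A * g⁻¹ = Phi (g • v) A := by
  refine spq_ext fun z => ?_
  rw [app_mul, app_mul, app_phi, app_add, app_app_inv, app_sc, app_phi, smul_val]
  conv_rhs => rw [← app_app_inv g z, herm_app]
  rw [app_app_inv]

theorem phi_rmul (v : UV F ι) (C A : SLtwo F) :
    Phi (rmul v C) A = Phi v (C * A * C⁻¹) := by
  refine spq_ext fun z => ?_
  rw [app_phi, app_phi, rmul_val, sc_sc, herm_sc_left]
  congr 2
  rw [Matrix.SpecialLinearGroup.coe_mul, Matrix.SpecialLinearGroup.coe_mul, coe_inv_eq_adj]
  have : (C : R2 F) * adjugate (C : R2 F) = 1 := by rw [self_mul_adj, C.2, one_smul]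
  simp only [mul_sub, sub_mul, one_mul, mul_one, ← mul_assoc, this]

theorem app_phi_E (a : ι) (A : SLtwo F) (z : ι → R2 F) :
    app (Phi (E a) A) z = Function.update z a ((A : R2 F) * z a) := by
  rw [app_phi, herm_E, sc_E]
  funext t
  rcases eq_or_ne t a with rfl | h
  · simp [sub_mul]
  · simp [h]

/-- The involution of the plane of a unit column. -/
def refl2 (v : UV F ι) : SpQ F ι := Phi v (-1)

theorem refl2_conj (g : SpQ F ι) (v : UV F ι) : g * refl2 v * g⁻¹ = refl2 (g • v) :=
  phi_conj g v _

theorem refl2_sq (v : UV F ι) : refl2 v * refl2 v = 1 := by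
  rw [refl2, ← map_mul, neg_mul_neg, one_mul, map_one]

theorem refl2_inv (v : UV F ι) : (refl2 v)⁻¹ = refl2 v := inv_eq_of_mul_eq_one_right (refl2_sq v)

theorem refl2_rmul (v : UV F ι) (C : SLtwo F) : refl2 (rmul v C) = refl2 v := by
  rw [refl2, phi_rmul, refl2]; simp

theorem orderOf_refl2 (h2 : (2 : F) ≠ 0) (v : UV F ι) : orderOf (refl2 v) = 2 := by
  refine orderOf_eq_prime (by rw [sq]; exact refl2_sq v) fun h => ?_
  have h1 : (-1 : SLtwo F) = 1 := phi_injective v (h.trans (map_one _).symm)
  have h0 := congrArg (fun M : SLtwo F => (M : R2 F) 0 0) h1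
  simp at h0
  exact h2 (by linear_combination -h0)

theorem app_refl2 (v : UV F ι) (z : ι → R2 F) :
    app (refl2 v) z = z + sc v.1 ((-2 : F) • herm v.1 z) := by
  rw [refl2, app_phi]
  congr 2
  rw [Matrix.SpecialLinearGroup.coe_neg, Matrix.SpecialLinearGroup.coe_one, neg_smul, two_smul,
    sub_mul, neg_mul, one_mul]
  abel

theorem app_refl2_self (v : UV F ι) : app (refl2 v) v.1 = -v.1 := by
  rw [app_refl2, v.2]
  funext t
  simp only [sc, Pi.add_apply, mul_smul_comm, mul_one, Pi.neg_apply]
  module

/-- Two commuting involutions of planes: the planes are orthogonal or equal. -/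
theorem orth_or_same (h2 : (2 : F) ≠ 0) {v w : UV F ι}
    (h : refl2 v * refl2 w = refl2 w * refl2 v) :
    herm v.1 w.1 = 0 ∨ ∃ C : SLtwo F, w = rmul v C := by
  set c := herm v.1 w.1 with hc
  set δ := c.det with hδ
  have h1 : app (refl2 v * refl2 w) w.1 = app (refl2 w * refl2 v) w.1 := by rw [h]
  rw [app_mul, app_mul, app_refl2_self, app_refl2, app_refl2 w,
    app_refl2 v w.1, herm_add, herm_sc, w.2, ← hc, ← adj_herm v.1 w.1, ← hc] at h1
  have hn : herm v.1 (-w.1) = -c := by
    rw [hc]; simp [herm, mul_neg, Finset.sum_neg_distrib]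
  rw [hn] at h1
  have key : sc v.1 c = δ • w.1 := by
    funext t
    have ht := congrFun h1 t
    simp only [Pi.add_apply, Pi.neg_apply, Pi.smul_apply, sc, smul_neg, mul_smul_comm,
      mul_neg, mul_add, mul_one, smul_add, smul_smul, adj_mul_self, ← hδ] at ht ⊢
    have h4 : (4 : F) • (v.1 t * c - δ • w.1 t) = 0 := by
      rw [← sub_eq_zero.2 ht]
      module
    have : (4 : F) ≠ 0 := by
      rw [show (4 : F) = 2 * 2 by norm_num]; exact mul_ne_zero h2 h2
    exact sub_eq_zero.1 ((smul_eq_zero.1 h4).resolve_left this)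
  have h3 := congrArg (fun u => herm u u) key
  have e1 : herm (δ • w.1) (δ • w.1) = (δ * δ) • (1 : R2 F) := by
    have : herm (δ • w.1) (δ • w.1) = (δ * δ) • herm w.1 w.1 := by
      simp [herm, adj_smul, Finset.smul_sum, smul_smul]
    rw [this, w.2]
  simp only [herm_sc, herm_sc_left, v.2, mul_one, adj_mul_self, ← hδ, e1] at h3
  have hδ2 : δ * δ = δ := (smul_one_injective h3).symm
  rcases mul_eq_zero.1 (show δ * (δ - 1) = 0 by rw [mul_sub, hδ2, mul_one, sub_self]) with hd | hd
  · left
    rw [hd, zero_smul] at key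
    have := congrArg (herm v.1) key
    rw [herm_sc, v.2, one_mul] at this
    rw [this]
    simp [herm]
  · right
    rw [sub_eq_zero] at hd
    refine ⟨⟨c, hd⟩, Subtype.ext ?_⟩
    rw [hd, one_smul] at key
    exact key.symm

theorem same_of_refl2_eq (h2 : (2 : F) ≠ 0) {v w : UV F ι} (h : refl2 v = refl2 w) :
    ∃ C : SLtwo F, w = rmul v C := by
  rcases orth_or_same h2 (v := v) (w := w) (by rw [h]) with h0 | hC
  · exfalso
    have h1 : app (refl2 v) w.1 = app (refl2 w) w.1 := by rw [h]
    rw [app_refl2_self, app_refl2, h0, smul_zero] at h1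
    have h3 : w.1 = 0 := by
      funext t
      have := congrFun h1 t
      simp only [Pi.add_apply, sc, mul_zero, add_zero, Pi.neg_apply] at this
      have h22 : (2 : F) • w.1 t = 0 := by rw [two_smul]; exact eq_neg_iff_add_eq_zero.1 this
      exact (smul_eq_zero.1 h22).resolve_left h2
    have := w.2
    rw [h3] at this
    simp [herm] at this
  · exact hC

/-- Elements commuting with the involution of a standard plane stabilise it. -/
theorem smul_E_of_commute (h2 : (2 : F) ≠ 0) {g : SpQ F ι} {a : ι}
    (h : g * refl2 (E a) = refl2 (E a) * g) : ∃ C : SLtwo F, g • E a = rmul (E a) C :=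
  same_of_refl2_eq h2 (by rw [← refl2_conj, h, mul_inv_cancel_right])

/-- The support of a column. -/
noncomputable def supp (v : ι → R2 F) : Finset ι :=
  by classical exact Finset.univ.filter fun t => v t ≠ 0

theorem mem_supp {v : ι → R2 F} {t : ι} : t ∈ supp v ↔ v t ≠ 0 := by
  classical simp [supp]

theorem sum_det (v : UV F ι) : ∑ t, (v.1 t).det = 1 := by
  refine smul_one_injective (F := F) ?_
  rw [Finset.sum_smul, one_smul]
  refine Eq.trans (Finset.sum_congr rfl fun t _ => (adj_mul_self (v.1 t)).symm) ?_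
  exact v.2

theorem exists_det_ne_zero (v : UV F ι) : ∃ t, (v.1 t).det ≠ 0 := by
  by_contra h
  push Not at h
  have := sum_det v
  rw [Finset.sum_eq_zero fun t _ => h t] at this
  exact zero_ne_one this

/-- A unit column concentrated in one coordinate. -/
theorem exists_eq_rmul_E {v : UV F ι} {b : ι} (h : ∀ t, t ≠ b → v.1 t = 0) :
    ∃ C : SLtwo F, v = rmul (E b) C := by
  have hs : v.1 = Pi.single b (v.1 b) := by
    funext t
    rcases eq_or_ne t b with rfl | ht
    · simp
    · simp [ht, h t ht]
  have hd : (v.1 b).det = 1 := by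
    rw [← sum_det v, Finset.sum_eq_single b]
    · intro t _ ht; rw [h t ht]; simp
    · simp
  exact ⟨⟨v.1 b, hd⟩, Subtype.ext (hs.trans (rmul_E_val b ⟨v.1 b, hd⟩).symm)⟩

section Monomial

/-- The block diagonal elements. -/
def diagQ : (ι → SLtwo F) →* SpQ F ι where
  toFun C :=
    ⟨{ val := Matrix.diagonal fun t => (C t : R2 F)
       inv := Matrix.diagonal fun t => ((C t)⁻¹ : SLtwo F).1
       val_inv := by
        rw [Matrix.diagonal_mul_diagonal, ← Matrix.diagonal_one]
        congr 1; funext t
        rw [← Matrix.SpecialLinearGroup.coe_mul, mul_inv_cancel]; rfl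
       inv_val := by
        rw [Matrix.diagonal_mul_diagonal, ← Matrix.diagonal_one]
        congr 1; funext t
        rw [← Matrix.SpecialLinearGroup.coe_mul, inv_mul_cancel]; rfl }, by
      show dag (Matrix.diagonal fun t => (C t : R2 F)) * Matrix.diagonal (fun t => (C t : R2 F)) = 1
      rw [show dag (Matrix.diagonal fun t => (C t : R2 F)) =
          Matrix.diagonal fun t => adjugate (C t : R2 F) by
        ext1 a b
        show adjugate _ = _
        rcases eq_or_ne a b with rfl | h
        · simp
        · simp [h, h.symm], Matrix.diagonal_mul_diagonal, ← Matrix.diagonal_one]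
      congr 1; funext t
      rw [adj_mul_self, (C t).2, one_smul]⟩
  map_one' := Subtype.ext (Units.ext (by simp))
  map_mul' C D := Subtype.ext (Units.ext (by simp))

theorem app_diagQ (C : ι → SLtwo F) (z : ι → R2 F) :
    app (diagQ C) z = fun t => (C t : R2 F) * z t := by
  funext t; exact Matrix.mulVec_diagonal _ _ _

/-- The permutation of the standard unit columns. -/
def permQ : Equiv.Perm ι →* SpQ F ι where
  toFun π :=
    ⟨{ val := Matrix.of fun a b => if π b = a then 1 else 0
       inv := Matrix.of fun a b => if π⁻¹ b = a then 1 else 0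
       val_inv := by
        ext1 a b
        rw [Matrix.mul_apply, Finset.sum_eq_single (π⁻¹ b)]
        · simp [Matrix.one_apply, eq_comm]
        · intro c _ hc
          rw [Matrix.of_apply, Matrix.of_apply, if_neg hc.symm, mul_zero]
        · simp
       inv_val := by
        ext1 a b
        rw [Matrix.mul_apply, Finset.sum_eq_single (π b)]
        · simp [Matrix.one_apply, eq_comm]
        · intro c _ hc
          simp [hc.symm]
        · simp }, by
      show dag (Matrix.of fun a b => if π b = a then (1 : R2 F) else 0) * _ = 1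
      ext1 a b
      rw [Matrix.mul_apply, Finset.sum_eq_single (π b)]
      · rcases eq_or_ne a b with rfl | h
        · simp [dag]
        · simp [dag, h]
      · intro c _ hc
        simp [hc.symm]
      · simp⟩
  map_one' := Subtype.ext (Units.ext (by
    ext1 a b
    simp [Matrix.one_apply, eq_comm]))
  map_mul' π ρ := Subtype.ext (Units.ext (by
    ext1 a b
    show _ = (Matrix.of (fun a b => if π b = a then (1 : R2 F) else 0) *
      Matrix.of (fun a b => if ρ b = a then (1 : R2 F) else 0)) a b
    rw [Matrix.mul_apply, Finset.sum_eq_single (ρ b)]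
    · simp only [Matrix.of_apply, Equiv.Perm.mul_apply, if_true, mul_one]
      by_cases h : π (ρ b) = a <;> simp [h]
    · intro c _ hc
      simp [hc.symm]
    · simp))

theorem app_permQ (π : Equiv.Perm ι) (z : ι → R2 F) :
    app (permQ π) z = fun t => z (π⁻¹ t) := by
  funext t
  show ∑ c, (if π c = t then (1 : R2 F) else 0) * z c = _
  rw [Finset.sum_eq_single (π⁻¹ t)]
  · simp
  · intro c _ hc
    have : π c ≠ t := fun h => hc (by rw [← h]; simp)
    simp [this]
  · simp

theorem mono_smul_E (π : Equiv.Perm ι) (C : ι → SLtwo F) (t : ι) :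
    (permQ π * diagQ C) • E (F := F) t = rmul (E (π t)) (C t) := by
  apply Subtype.ext
  rw [smul_val, app_mul, app_diagQ, app_permQ, rmul_E_val]
  funext u
  rcases eq_or_ne u (π t) with rfl | h
  · simp [E_val]
  · have : π.symm u ≠ t := fun e => h (by rw [← e]; simp)
    simp [E_val, h, this]

theorem eq_mono {g : SpQ F ι} {π : Equiv.Perm ι} {C : ι → SLtwo F}
    (h : ∀ t, g • E t = rmul (E (π t)) (C t)) : g = permQ π * diagQ C :=
  ext_E fun t => by rw [h, mono_smul_E]

theorem rmul_E_inj [Nontrivial (R2 F)] {a b : ι} {C D : SLtwo F}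
    (h : rmul (E a) C = rmul (E b) D) : a = b ∧ C = D := by
  obtain rfl : a = b := by
    by_contra hne
    have h1 := congrFun (congrArg Subtype.val h) a
    rw [rmul_E_val, rmul_E_val, Pi.single_eq_same, Pi.single_eq_of_ne hne] at h1
    have := C.2
    rw [h1] at this
    simp at this
  exact ⟨rfl, rmul_injective _ h⟩

theorem mono_inj [Nontrivial (R2 F)] {π ρ : Equiv.Perm ι} {C D : ι → SLtwo F}
    (h : permQ π * diagQ C = permQ ρ * diagQ D) : π = ρ ∧ C = D := by
  have h' : ∀ t, π t = ρ t ∧ C t = D t := fun t =>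
    rmul_E_inj (by rw [← mono_smul_E, ← mono_smul_E, h])
  exact ⟨Equiv.ext fun t => (h' t).1, funext fun t => (h' t).2⟩

theorem diagQ_mulSingle (a : ι) (A : SLtwo F) :
    diagQ (Pi.mulSingle a A) = Phi (E a) A := by
  refine spq_ext fun z => ?_
  rw [app_diagQ, app_phi_E]
  funext t
  rcases eq_or_ne t a with rfl | h
  · simp
  · simp [h]

theorem diag_comm_perm (π : Equiv.Perm ι) (C : ι → SLtwo F) :
    diagQ C * permQ π = permQ π * diagQ (fun t => C (π t)) := by
  refine spq_ext fun z => ?_
  rw [app_mul, app_mul, app_diagQ, app_diagQ, app_permQ, app_permQ]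
  funext t; simp

theorem mono_mul (π ρ : Equiv.Perm ι) (C D : ι → SLtwo F) :
    permQ π * diagQ C * (permQ ρ * diagQ D) =
      permQ (π * ρ) * diagQ (fun t => C (ρ t) * D t) := by
  rw [show permQ π * diagQ C * (permQ ρ * diagQ D) =
    permQ π * (diagQ C * permQ ρ) * diagQ D by simp only [mul_assoc], diag_comm_perm,
    map_mul, show (fun t => C (ρ t) * D t) = (fun t => C (ρ t)) * D from rfl, map_mul]
  simp only [mul_assoc]

end Monomial

end Cfsg.Agent.Lib.PronormalSp1
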