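import Mathlib
import Cfsg.Agent.Lib.PronormalSp1.Model

/-!
No plane of an overgroup exchanges two standard planes.
-/

set_option autoImplicit false

namespace Cfsg.Agent.Lib.PronormalSp1

open Matrix Cfsg.Agent.Lib.SL2 Cfsg.Agent.Lib.PronormalOddIndex

variable {F : Type} [Field F] {ι : Type} [Fintype ι] [DecidableEq ι]

/-- The preimage of `X` in the copy of `SL₂` of a plane has order divisible by eight. -/
def IsQP (X : Subgroup (SpQ F ι)) (v : UV F ι) : Prop :=
  8 ∣ Nat.card (X.comap (Phi v))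

theorem IsQP.smul {X : Subgroup (SpQ F ι)} {v : UV F ι} (h : IsQP X v) {y : SpQ F ι}
    (hy : y ∈ X) : IsQP X (y • v) := by
  have e : X.comap (Phi (y • v)) = X.comap (Phi v) := by
    ext A
    rw [Subgroup.mem_comap, Subgroup.mem_comap, ← phi_conj]
    exact ⟨fun h1 => by
      have := X.mul_mem (X.mul_mem (X.inv_mem hy) h1) hy
      simpa [mul_assoc] using this,
      fun h1 => X.mul_mem (X.mul_mem hy h1) (X.inv_mem hy)⟩
  rw [IsQP, e]; exact h

/-- The standing hypotheses on an overgroup. -/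
structure Hyp {Q : Subgroup (SLtwo F)} (D : QCase Q) (X : Subgroup (SpQ F ι)) : Prop where
  le : ∀ t, ∀ q ∈ Q, Phi (E t) q ∈ X
  eq : ∀ t A, Phi (E t) A ∈ X → A ∈ Q
  noBad : ∀ c : ι → ℕ, diagQ (fun t => D.w ^ c t) ∈ X → 3 ∣ ∑ t, c t

theorem Hyp.qp {Q : Subgroup (SLtwo F)} {D : QCase Q} {X : Subgroup (SpQ F ι)} (h : Hyp D X)
    (t : ι) : IsQP X (E t) := by
  have e : X.comap (Phi (E t)) = Q := le_antisymm (fun A hA => h.eq t A hA) (fun A hA => h.le t A hA)
  rw [IsQP, e, D.card]

variable [Fintype F]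

theorem two_power_mem {Q : Sylow 2 (SLtwo F)} (D : QCase (Q : Subgroup (SLtwo F)))
    {H : Subgroup (SLtwo F)} (h8 : 8 ∣ Nat.card H) {x : SLtwo F} (hx : x ^ 8 = 1)
    (hn : x ∈ Subgroup.normalizer (H : Set (SLtwo F))) : x ∈ H := by
  haveI : Fact (Nat.Prime 2) := ⟨Nat.prime_two⟩
  set N := Subgroup.normalizer (H : Set (SLtwo F))
  haveI : (H.subgroupOf N).Normal := Subgroup.normal_in_normalizer
  have hm : x ^ H.relIndex N ∈ H := by
    have := Subgroup.pow_index_mem (H.subgroupOf N) (⟨x, hn⟩ : N)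
    simpa [Subgroup.mem_subgroupOf, Subgroup.relIndex] using this
  have hodd : ¬ 2 ∣ H.index := by
    have hv : 2 ^ (Nat.card (SLtwo F)).factorization 2 = 8 := by
      rw [← Q.card_eq_multiplicity]; exact D.card
    intro h2
    obtain ⟨c, hc⟩ := h8
    obtain ⟨d, hd⟩ := h2
    have hcard := H.card_mul_index
    rw [hc, hd] at hcard
    have h16 : 2 ^ ((Nat.card (SLtwo F)).factorization 2 + 1) ∣ Nat.card (SLtwo F) := by
      rw [pow_succ, hv, ← hcard]; exact ⟨c * d, by ring⟩
    exact Nat.pow_succ_factorization_not_dvd Nat.card_pos.ne' Nat.prime_two h16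
  have hcop : Nat.Coprime (H.relIndex N) 8 := by
    rw [show (8 : ℕ) = 2 ^ 3 by norm_num]
    refine Nat.Coprime.pow_right 3 ((Nat.coprime_comm).1 (Nat.prime_two.coprime_iff_not_dvd.2 ?_))
    exact fun h => hodd (h.trans (Subgroup.relIndex_dvd_index_of_le Subgroup.le_normalizer))
  obtain ⟨m, -, hm1⟩ := Nat.exists_mul_mod_eq_one_of_coprime hcop (by norm_num)
  have hp := pow_mem hm m
  rwa [← pow_mul, pow_eq_pow_mod _ hx, hm1, pow_one] at hp

/-- A plane of an overgroup does not exchange two standard planes. -/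
theorem no_swap (h2 : (2 : F) ≠ 0) {Q : Sylow 2 (SLtwo F)}
    (D : QCase (Q : Subgroup (SLtwo F))) {X : Subgroup (SpQ F ι)} (hX : Hyp D X)
    {w : UV F ι} (hw : IsQP X w) (hwX : refl2 w ∈ X) {a b : ι} (hab : a ≠ b)
    (hs : ∀ t, t ≠ a → t ≠ b → w.1 t = 0)
    (hsw : refl2 w * refl2 (E a) * refl2 w = refl2 (E b)) : False := by
  classical
  have hconj : refl2 (refl2 w • E a) = refl2 (E (F := F) b) := by
    rw [← refl2_conj, refl2_inv, hsw]
  obtain ⟨C', hC'⟩ := same_of_refl2_eq h2 hconj
  obtain ⟨C, hwC⟩ : ∃ C : SLtwo F, refl2 w • E a = rmul (E b) C :=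
    ⟨C'⁻¹, by rw [hC', rmul_rmul, mul_inv_cancel, rmul_one]⟩
  have hval : ∀ t, (E (F := F) a).1 t + w.1 t * ((-2 : F) • adjugate (w.1 a)) =
      (rmul (E (F := F) b) C).1 t := fun t => by
    rw [← hwC, smul_val, app_refl2, herm_E_right]; rfl
  set wa : R2 F := w.1 a with hwa
  set wb : R2 F := w.1 b with hwb
  have hda : 2 * wa.det = 1 := by
    have h := hval a
    rw [rmul_E_val, E_val, Pi.single_eq_same, Pi.single_eq_of_ne hab, mul_smul_comm, self_mul_adj,
      smul_smul, ← hwa] at h
    refine smul_one_injective (F := F) ?_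
    rw [one_smul]
    rw [eq_comm, ← sub_eq_zero, ← h]
    module
  have hC : (C : R2 F) = wb * ((-2 : F) • adjugate wa) := by
    have h := hval b
    rw [rmul_E_val, E_val, Pi.single_eq_same, Pi.single_eq_of_ne hab.symm, zero_add] at h
    exact h.symm
  have hwaa : (2 : F) • (wa * adjugate wa) = 1 := by rw [self_mul_adj, smul_smul, hda, one_smul]
  have hwaa' : (2 : F) • (adjugate wa * wa) = 1 := by rw [adj_mul_self, smul_smul, hda, one_smul]
  have hbC : wb = -((C : R2 F) * wa) := by
    rw [hC, mul_assoc, smul_mul_assoc, neg_smul, hwaa', mul_neg, mul_one, neg_neg]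
  have hCi : adjugate (C : R2 F) * (C : R2 F) = 1 := by rw [adj_mul_self, C.2, one_smul]
  have hCn : C ∈ Subgroup.normalizer ((Q : Subgroup (SLtwo F)) : Set (SLtwo F)) := by
    refine mem_normalizer_of_forall fun q hq => hX.eq b _ ?_
    rw [← phi_rmul, ← hwC, ← phi_conj]
    exact X.mul_mem (X.mul_mem hwX (hX.le a q hq)) (X.inv_mem hwX)
  -- the induced action of `Q` on the plane of `w`
  have hτdet : ∀ x : SLtwo F, ((2 : F) • (adjugate wa * (x : R2 F) * wa)).det = 1 := fun x => by
    rw [Matrix.det_smul, Matrix.det_mul, Matrix.det_mul, Matrix.det_adjugate, x.2,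
      Fintype.card_fin]
    linear_combination (2 * wa.det + 1) * hda
  let τ : SLtwo F →* SLtwo F := MonoidHom.mk' (fun x => ⟨_, hτdet x⟩) (fun x y => Subtype.ext (by
    show (2 : F) • (adjugate wa * ((x * y : SLtwo F) : R2 F) * wa) =
      (2 : F) • (adjugate wa * (x : R2 F) * wa) * ((2 : F) • (adjugate wa * (y : R2 F) * wa))
    calc (2 : F) • (adjugate wa * ((x * y : SLtwo F) : R2 F) * wa)
        = (2 : F) • (adjugate wa * (x : R2 F) * ((2 : F) • (wa * adjugate wa)) *
            ((y : R2 F) * wa)) := by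
          rw [hwaa, mul_one, Matrix.SpecialLinearGroup.coe_mul]; simp only [mul_assoc]
      _ = _ := by simp only [smul_mul_assoc, mul_smul_comm, smul_smul, mul_assoc]))
  have hτval : ∀ x : SLtwo F, (τ x : R2 F) = (2 : F) • (adjugate wa * (x : R2 F) * wa) :=
    fun x => rfl
  have hdw : ∀ x : SLtwo F, (Phi (E a) x * Phi (E b) (C * x * C⁻¹)) • w = rmul w (τ x) := by
    intro x
    apply Subtype.ext
    rw [smul_val, app_mul, app_phi_E, app_phi_E, rmul_val]
    funext t
    simp only [sc]
    rcases eq_or_ne t a with rfl | hta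
    · rw [Function.update_self, Function.update_of_ne hab, ← hwa, hτval, mul_smul_comm,
        ← mul_assoc, ← mul_assoc, ← smul_mul_assoc, ← smul_mul_assoc, hwaa, one_mul]
    rw [Function.update_of_ne hta]
    rcases eq_or_ne t b with rfl | htb
    · rw [Function.update_self, ← hwb, hbC, hτval, mul_smul_comm, neg_mul, mul_neg, smul_neg,
        Matrix.SpecialLinearGroup.coe_mul, Matrix.SpecialLinearGroup.coe_mul, coe_inv_eq_adj]
      refine congrArg Neg.neg ?_
      calc (C : R2 F) * (x : R2 F) * adjugate (C : R2 F) * ((C : R2 F) * wa)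
          = (C : R2 F) * (x : R2 F) * (adjugate (C : R2 F) * (C : R2 F)) * wa := by
            simp only [mul_assoc]
        _ = (C : R2 F) * ((2 : F) • (wa * adjugate wa)) * ((x : R2 F) * wa) := by
            rw [hCi, hwaa, mul_one, mul_one]; simp only [mul_assoc]
        _ = _ := by simp only [mul_smul_comm, smul_mul_assoc, mul_assoc]
    · rw [Function.update_of_ne htb, hs t hta htb, zero_mul]
  have hd : ∀ x ∈ (Q : Subgroup (SLtwo F)), Phi (E a) x * Phi (E b) (C * x * C⁻¹) ∈ X :=
    fun x hx => X.mul_mem (hX.le a x hx)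
      (hX.le b _ ((Subgroup.mem_normalizer_iff.1 hCn x).1 hx))
  have hτ : ∀ x ∈ (Q : Subgroup (SLtwo F)), Phi w (τ x) ∈ X := by
    intro x hx
    refine two_power_mem D (H := X.comap (Phi w)) hw ?_ (mem_normalizer_of_forall fun h hh => ?_)
    · rw [← map_pow]
      have : x ^ 8 = 1 := by
        rw [← orderOf_dvd_iff_pow_eq_one, ← D.card]
        exact Subgroup.orderOf_dvd_natCard _ hx
      rw [this, map_one]
    · rw [Subgroup.mem_comap, ← phi_rmul, ← hdw, ← phi_conj]
      exact X.mul_mem (X.mul_mem (hd x hx) hh) (X.inv_mem (hd x hx))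
  -- coordinates adapted to `C`
  let z2 : R2 F → R2 F → (ι → R2 F) := fun x y => Pi.single a x + Pi.single b (-((C : R2 F) * y))
  have hT : ∀ q : SLtwo F, ∀ x y : R2 F, app (Phi w (τ q)) (z2 x y) =
      z2 (x + (2 : F)⁻¹ • (((q : R2 F) - 1) * (x + y)))
        (y + (2 : F)⁻¹ • (((q : R2 F) - 1) * (x + y))) := by
    intro q x y
    set u := ((q : R2 F) - 1) * (x + y) with hu
    have hh : herm w.1 (z2 x y) = adjugate wa * (x + y) := by
      rw [herm_add, herm_right_single, herm_right_single, ← hwa, ← hwb, hbC, adj_neg,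
        adjugate_mul_distrib, neg_mul_neg, mul_assoc, ← mul_assoc (adjugate (C : R2 F)), hCi,
        one_mul, mul_add]
    have hi : ((τ q : R2 F) - 1) * herm w.1 (z2 x y) = adjugate wa * u := by
      have e1 : (τ q : R2 F) * adjugate wa = adjugate wa * (q : R2 F) := by
        rw [hτval, smul_mul_assoc, mul_assoc (adjugate wa * (q : R2 F)), ← mul_smul_comm, hwaa,
          mul_one]
      rw [hh, ← mul_assoc, sub_mul, e1, one_mul, hu]
      noncomm_ring
    have hwu : wa * (adjugate wa * u) = (2 : F)⁻¹ • u := by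
      rw [← mul_assoc]
      conv_rhs => rw [← one_mul u, ← hwaa, smul_mul_assoc, smul_smul, inv_mul_cancel₀ h2, one_smul]
    rw [app_phi, hi]
    funext t
    simp only [Pi.add_apply, z2, sc]
    rcases eq_or_ne t a with rfl | hta
    · simp only [Pi.single_eq_same, Pi.single_eq_of_ne hab, add_zero, ← hwa, hwu]
    rcases eq_or_ne t b with rfl | htb
    · simp only [Pi.single_eq_same, Pi.single_eq_of_ne hta, zero_add, ← hwb, hbC]
      rw [neg_mul, mul_assoc, hwu, mul_add, neg_add]
    · simp [hta, htb, hs t hta htb]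
  have hR : ∀ q : SLtwo F, ∀ x y : R2 F,
      app (Phi (E b) (C * q * C⁻¹)) (z2 x y) = z2 x ((q : R2 F) * y) := by
    intro q x y
    rw [app_phi_E]
    funext t
    rcases eq_or_ne t b with rfl | htb
    · simp only [z2, Function.update_self, Pi.add_apply, Pi.single_eq_same,
        Pi.single_eq_of_ne hab.symm, zero_add]
      rw [Matrix.SpecialLinearGroup.coe_mul, Matrix.SpecialLinearGroup.coe_mul, coe_inv_eq_adj,
        mul_neg, mul_assoc, mul_assoc, ← mul_assoc (adjugate (C : R2 F)), hCi, one_mul]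
    · simp [z2, Function.update_of_ne htb, htb]
  set W' : SLtwo F := D.j * D.w * D.j⁻¹ with hW'
  have hkey : Phi w (τ D.i) * Phi (E b) (C * (D.i * D.j) * C⁻¹) * Phi w (τ D.j) *
      Phi (E b) (C * D.j * C⁻¹) = Phi (E a) D.w * Phi (E b) (C * W' * C⁻¹) := by
    refine spq_ext fun z => ?_
    obtain ⟨x, y, r, hra, hrb, hz⟩ : ∃ x y r, r a = 0 ∧ r b = 0 ∧ z = r + z2 x y := by
      refine ⟨z a, -(adjugate (C : R2 F) * z b), Function.update (Function.update z a 0) b 0,
        ?_, ?_, ?_⟩
      · simp [hab]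
      · simp
      · funext t
        have : (C : R2 F) * (adjugate (C : R2 F) * z b) = z b := by
          rw [← mul_assoc, self_mul_adj, C.2, one_smul, one_mul]
        rcases eq_or_ne t a with rfl | hta
        · simp [z2, hab]
        rcases eq_or_ne t b with rfl | htb
        · simp [z2, hta, this]
        · simp [z2, hta, htb]
    have hrw : ∀ A : SLtwo F, app (Phi w A) r = r := fun A => phi_fix w A (by
      rw [herm, Finset.sum_eq_zero]
      intro t _
      rcases eq_or_ne t a with rfl | hta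
      · simp [hra]
      rcases eq_or_ne t b with rfl | htb
      · simp [hrb]
      · simp [hs t hta htb])
    have hrb' : ∀ A : SLtwo F, app (Phi (E b) A) r = r := fun A =>
      phi_fix _ A (by rw [herm_E, hrb])
    have hra' : app (Phi (E a) D.w) r = r := phi_fix _ _ (by rw [herm_E, hra])
    have hA : ∀ x' y', app (Phi (E a) D.w) (z2 x' y') = z2 ((D.w : R2 F) * x') y' := by
      intro x' y'
      rw [app_phi_E]
      funext t
      rcases eq_or_ne t a with rfl | hta
      · simp [z2, hab]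
      · simp [z2, hta]
    subst hz
    simp only [app_mul, app_add, hrw, hrb', hra', hR, hT, hA, hW']
    congr 2
    · simp only [Matrix.SpecialLinearGroup.coe_mul, D.w_val, mul_add, add_mul, mul_sub, sub_mul,
        smul_mul_assoc, mul_smul_comm, mul_assoc, one_mul, mul_one, mul_neg, neg_mul, D.ii', D.jj',
        D.ji', smul_smul, smul_add, smul_sub, smul_neg]
      match_scalars <;> field_simp <;> ring
    · rw [Matrix.SpecialLinearGroup.coe_mul, Matrix.SpecialLinearGroup.coe_mul, coe_inv_eq_adj,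
        D.adj_j]
      simp only [Matrix.SpecialLinearGroup.coe_mul, D.w_val, mul_add, add_mul, mul_sub, sub_mul,
        smul_mul_assoc, mul_smul_comm, mul_assoc, one_mul, mul_one, mul_neg, neg_mul, D.ii', D.jj',
        D.ji', smul_smul, smul_add, smul_sub, smul_neg]
      match_scalars <;> field_simp <;> ring
  have hjn : D.j ∈ Subgroup.normalizer ((Q : Subgroup (SLtwo F)) : Set (SLtwo F)) :=
    Subgroup.le_normalizer D.hj
  have hn : D.w⁻¹ * (C * W' * C⁻¹) ∈ (Q : Subgroup (SLtwo F)) := by
    have h1 := D.conj_w_mem (mul_mem hCn hjn)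
    have h3 := (Subgroup.mem_normalizer_iff.1 (inv_mem D.w_norm) _).1 h1
    convert h3 using 1
    rw [hW']; group
  have hmem : Phi (E a) D.w * Phi (E b) D.w ∈ X := by
    rw [show Phi (E a) D.w * Phi (E b) D.w = Phi (E a) D.w * Phi (E b) (C * W' * C⁻¹) *
      Phi (E b) ((C * W' * C⁻¹)⁻¹ * D.w) by
        rw [mul_assoc, ← map_mul, mul_inv_cancel_left], ← hkey]
    refine X.mul_mem (X.mul_mem (X.mul_mem (X.mul_mem ?_ ?_) ?_) ?_) ?_
    · exact hτ _ D.hi
    · exact hX.le b _ ((Subgroup.mem_normalizer_iff.1 hCn _).1 (mul_mem D.hi D.hj))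
    · exact hτ _ D.hj
    · exact hX.le b _ ((Subgroup.mem_normalizer_iff.1 hCn _).1 D.hj)
    · refine hX.le b _ ?_
      have := inv_mem hn
      rwa [_root_.mul_inv_rev, inv_inv] at this
  have h3 := hX.noBad (fun t => if t = a ∨ t = b then 1 else 0) (by
    convert hmem using 1
    rw [← diagQ_mulSingle, ← diagQ_mulSingle, ← map_mul]
    congr 1
    funext t
    rcases eq_or_ne t a with rfl | hta
    · simp [hab]
    rcases eq_or_ne t b with rfl | htb
    · simp [hta]
    · simp [hta, htb])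
  rw [Finset.sum_ite, Finset.sum_const_zero, add_zero, Finset.sum_const, smul_eq_mul, mul_one,
    show Finset.univ.filter (fun t => t = a ∨ t = b) = {a, b} by ext t; simp,
    Finset.card_pair hab] at h3
  omega

end Cfsg.Agent.Lib.PronormalSp1
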