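import Mathlib
import Cfsg.Agent.Lib.PronormalSp1.Swap
import Cfsg.Agent.Lib.ZStar.Final
import Cfsg.Agent.Lib.ZStar.Elements

/-!
An overgroup without bad diagonal elements permutes the standard planes.
-/

set_option autoImplicit false

namespace Cfsg.Agent.Lib.PronormalSp1

open Matrix Cfsg Cfsg.Agent.Lib Cfsg.Agent.Lib.SL2 Cfsg.Agent.Lib.PronormalOddIndex

theorem mem_zpowers_two {G : Type*} [Group G] {z x : G} (hz : orderOf z = 2)
    (hx : x ∈ Subgroup.zpowers z) : x = 1 ∨ x = z := by
  obtain ⟨m, rfl⟩ := hx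
  show z ^ m = 1 ∨ z ^ m = z
  rw [← zpow_mod_orderOf, hz]
  have h1 := Int.emod_nonneg m (show ((2 : ℕ) : ℤ) ≠ 0 by norm_num)
  have h2 := Int.emod_lt_of_pos m (show (0 : ℤ) < ((2 : ℕ) : ℤ) by norm_num)
  rcases (show m % ((2 : ℕ) : ℤ) = 0 ∨ m % ((2 : ℕ) : ℤ) = 1 by omega) with h | h <;> rw [h]
  · exact Or.inl (zpow_zero z)
  · exact Or.inr (zpow_one z)

/-- The preimage of the odd core modulo a central subgroup of order two. -/
theorem mem_oddCore_or_of_mk_mem {G : Type*} [Group G] [Finite G] {z : G} (hz2 : orderOf z = 2)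
    [(Subgroup.zpowers z).Normal] {x : G}
    (hx : QuotientGroup.mk' (Subgroup.zpowers z) x ∈ oddCore (G ⧸ Subgroup.zpowers z)) :
    x ∈ oddCore G ∨ z * x ∈ oddCore G := by
  classical
  set Z := Subgroup.zpowers z with hZ
  have hZcard : Nat.card Z = 2 := by rw [hZ, Nat.card_zpowers, hz2]
  set W := (oddCore (G ⧸ Z)).comap (QuotientGroup.mk' Z) with hW
  obtain ⟨m, hm, hcard⟩ : ∃ m, Nat.Coprime m 2 ∧ Nat.card W = 2 * m :=
    ⟨_, PSolvable.pPrimeCore_coprime, by rw [hW, PSolvable.card_comap_mk', hZcard]⟩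
  have hZW : Z ≤ W := QuotientGroup.le_comap_mk' Z _
  have hZWcard : Nat.card (Z.subgroupOf W) = 2 := by
    rw [Nat.card_congr (Subgroup.subgroupOfEquivOfLe hZW).toEquiv, hZcard]
  have hindex : (Z.subgroupOf W).index = m := by
    have := (Z.subgroupOf W).card_mul_index
    rw [hZWcard, hcard] at this
    omega
  obtain ⟨K, hK⟩ := Subgroup.exists_right_complement'_of_coprime (N := Z.subgroupOf W)
    (by rw [hZWcard, hindex]; exact hm.symm)
  have hKidx : K.index = 2 := hK.index_eq_card.trans hZWcard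
  have hKcard : Nat.card K = m := by
    have := K.card_mul_index
    rw [hKidx, hcard] at this
    omega
  set K' := K.map W.subtype with hK'
  have hK'card : Nat.card K' = m := by
    rw [hK', Subgroup.card_map_of_injective W.subtype_injective, hKcard]
  have hnorm : K'.Normal := by
    refine ⟨fun x hx a => ?_⟩
    obtain ⟨⟨k, hkW⟩, hk, rfl⟩ := hx
    have hconjW : a * k * a⁻¹ ∈ W := (inferInstance : W.Normal).conj_mem k hkW a
    refine ⟨⟨_, hconjW⟩, ?_, rfl⟩
    have ho : orderOf (⟨a * k * a⁻¹, hconjW⟩ : W) = orderOf (⟨k, hkW⟩ : W) := by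
      rw [Subgroup.orderOf_mk, Subgroup.orderOf_mk]
      exact Involution.isConj_orderOf (isConj_iff.2 ⟨a, rfl⟩)
    obtain ⟨j, hj⟩ : Odd (orderOf (⟨a * k * a⁻¹, hconjW⟩ : W)) := by
      rw [ho]
      exact (Nat.coprime_two_right.1 hm).of_dvd_nat
        (hKcard ▸ Subgroup.orderOf_dvd_natCard K hk)
    have h2 := Subgroup.sq_mem_of_index_two hKidx (⟨a * k * a⁻¹, hconjW⟩ : W)
    have h3 : ((⟨a * k * a⁻¹, hconjW⟩ : W) ^ 2) ^ (j + 1) = ⟨a * k * a⁻¹, hconjW⟩ := by
      rw [← pow_mul, show 2 * (j + 1) = orderOf (⟨a * k * a⁻¹, hconjW⟩ : W) + 1 by omega, pow_succ,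
        pow_orderOf_eq_one, one_mul]
    exact h3 ▸ pow_mem h2 _
  have hle : K' ≤ oddCore G := PSolvable.le_pPrimeCore (by rw [hK'card]; exact hm)
  have hxW : x ∈ W := hx
  have hzW : z ∈ W := hZW (Subgroup.mem_zpowers z)
  have hzK : (⟨z, hzW⟩ : W) ∉ K := fun h => by
    have h1 := Subgroup.orderOf_dvd_natCard K h
    rw [Subgroup.orderOf_mk, hz2, hKcard] at h1
    exact absurd (hm.symm.eq_one_of_dvd h1) (by norm_num)
  by_cases h : (⟨x, hxW⟩ : W) ∈ K
  · exact Or.inl (hle ⟨_, h, rfl⟩)
  · refine Or.inr (hle ⟨⟨z, hzW⟩ * ⟨x, hxW⟩, ?_, rfl⟩)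
    exact (Subgroup.mul_mem_iff_of_index_two hKidx).2 (by simp [h, hzK])

variable {F : Type} [Field F] [Fintype F] {ι : Type} [Fintype ι] [DecidableEq ι]

theorem pow_smul_rmul (y : SpQ F ι) (v : UV F ι) (A : SLtwo F) (h : y • v = rmul v A) (n : ℕ) :
    y ^ n • v = rmul v (A ^ n) := by
  induction n with
  | zero => rw [pow_zero, pow_zero, one_smul, rmul_one]
  | succ n ih => rw [pow_succ', mul_smul, ih, smul_rmul, h, rmul_rmul, ← pow_succ']

set_option maxHeartbeats 800000 in
/-- The inductive step. -/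
theorem false_of_support (h2 : (2 : F) ≠ 0) {Q : Sylow 2 (SLtwo F)}
    (D : QCase (Q : Subgroup (SLtwo F))) {X : Subgroup (SpQ F ι)} (hX : Hyp D X)
    {v : UV F ι} (hv : IsQP X v) (hs2 : 1 < (supp v.1).card)
    (hIH : ∀ u : UV F ι, IsQP X u → supp u.1 ⊂ supp v.1 →
      ∃ b C, u = rmul (E b) C) : False := by
  classical
  set s := supp v.1 with hs
  have hne : ∀ {C : SLtwo F}, (C : R2 F) ≠ 0 := fun {C} h => by
    have := C.2; rw [h] at this; simp at this
  obtain ⟨k, hk⟩ := exists_det_ne_zero v
  have hks : k ∈ s := mem_supp.2 fun h => hk (by rw [h]; simp)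
  obtain ⟨a, has, hak⟩ := Finset.exists_mem_ne hs2 k
  have hva : v.1 a ≠ 0 := mem_supp.1 has
  set δ := (v.1 k).det with hδ
  have hout : ∀ t, t ∉ s → v.1 t = 0 := fun t ht => by
    by_contra h; exact ht (mem_supp.2 h)
  -- the stabiliser of the test columns
  let Y : Subgroup (SpQ F ι) :=
    { carrier := {y | y ∈ X ∧ ∀ z, z a = 0 → herm v.1 z = 0 → app y z = z}
      one_mem' := ⟨X.one_mem, fun z _ _ => app_one z⟩
      mul_mem' := fun {x y} hx hy => ⟨X.mul_mem hx.1 hy.1, fun z h1 h2 => by
        rw [app_mul, hy.2 z h1 h2, hx.2 z h1 h2]⟩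
      inv_mem' := fun {x} hx => ⟨X.inv_mem hx.1, fun z h1 h2 => by
        conv_lhs => rw [← hx.2 z h1 h2]
        exact app_inv_app x z⟩ }
  let Z : ι → (ι → R2 F) := fun l =>
    Pi.single l (δ • (1 : R2 F)) + Pi.single k (-(v.1 k * adjugate (v.1 l)))
  have hZa : ∀ l, l ≠ a → Z l a = 0 := fun l hl => by simp [Z, hl.symm, hak]
  have hZv : ∀ l, herm v.1 (Z l) = 0 := fun l => by
    rw [herm_add, herm_right_single, herm_right_single, mul_smul_comm, mul_one, mul_neg,
      ← mul_assoc, adj_mul_self, smul_mul_assoc, one_mul, ← hδ, add_neg_cancel]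
  have hY : ∀ y ∈ Y, ∀ l, l ≠ a → app y (Z l) = Z l := fun y hy l hl =>
    hy.2 _ (hZa l hl) (hZv l)
  have hZl : ∀ l, l ≠ k → Z l l = δ • (1 : R2 F) := fun l hl => by simp [Z, hl]
  have hZk : ∀ l, l ≠ k → Z l k = -(v.1 k * adjugate (v.1 l)) := fun l hl => by
    simp [Z, hl.symm]
  have hδ1 : δ • (1 : R2 F) ≠ 0 := smul_ne_zero hk one_ne_zero
  have hX0 : ∀ l ∈ s, v.1 k * adjugate (v.1 l) ≠ 0 := fun l hl h => by
    have := eq_zero_of_mul_left hk h
    exact mem_supp.1 hl (by rw [← adj_adj (v.1 l), this, adj_zero])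
  -- columns outside the support
  have hfix : ∀ y ∈ Y, ∀ t, t ∉ s → y • E (F := F) t = E t := fun y hy t ht => by
    refine Subtype.ext (hy.2 _ ?_ ?_)
    · rw [E_val, Pi.single_eq_of_ne]; rintro rfl; exact ht has
    · rw [herm_E_right, hout t ht, adj_zero]
  have hsupp : ∀ y ∈ Y, ∀ u ∈ s, supp (y • E (F := F) u).1 ⊆ s := by
    intro y hy u hu t ht
    by_contra h
    apply mem_supp.1 ht
    have h1 := herm_app y (E (F := F) t).1 (E u).1
    rw [← smul_val, ← smul_val, hfix y hy t h, herm_E, herm_E] at h1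
    rw [h1, E_val, Pi.single_eq_of_ne]
    rintro rfl; exact h hu
  have hsub : ∀ u : UV F ι, supp u.1 ⊆ s → u.1 a = 0 → supp u.1 ⊂ s := fun u hu h0 =>
    (Finset.ssubset_iff_of_subset hu).2 ⟨a, has, fun h => mem_supp.1 h h0⟩
  -- the generators
  have hphiY : ∀ q ∈ (Q : Subgroup (SLtwo F)), Phi (E a) q ∈ Y := fun q hq =>
    ⟨hX.le a q hq, fun z hz _ => phi_fix _ _ (by rw [herm_E, hz])⟩
  have hnegQ := D.neg_mem
  have hvX : refl2 v ∈ X := by
    have h8 : (-1 : SLtwo F) ∈ X.comap (Phi v) :=
      two_power_mem D hv (Even.neg_one_pow ⟨4, rfl⟩) (mem_normalizer_of_forall fun h hh => by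
        simpa using hh)
    exact h8
  have hvY : refl2 v ∈ Y := ⟨hvX, fun z _ hz => phi_fix _ _ hz⟩
  set e := refl2 (E (F := F) a) with he
  have heY : e ∈ Y := hphiY _ hnegQ
  have hee : e * e = 1 := refl2_sq _
  have hei : e⁻¹ = e := refl2_inv _
  have hconjY : ∀ y ∈ Y, y * e * y⁻¹ = refl2 (y • E a) := fun y _ => refl2_conj y _
  -- commuting conjugates
  have hclass : ∀ y ∈ Y, Commute e (y * e * y⁻¹) →
      y * e * y⁻¹ = e ∨ (s = {a, k} ∧ y * e * y⁻¹ = refl2 (E k)) := by
    intro y hy hc
    rw [hconjY y hy] at hc ⊢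
    rcases orth_or_same h2 (v := E a) (w := y • E a) hc.eq with h0 | ⟨C, hC⟩
    swap
    · left; rw [hC, refl2_rmul, he]
    rw [herm_E] at h0
    obtain ⟨b, C, hb⟩ := hIH _ ((hX.qp a).smul hy.1)
      (hsub _ (hsupp y hy a has) h0)
    have hbs : b ∈ s := hsupp y hy a has (mem_supp.2 (by
      rw [hb, rmul_E_val, Pi.single_eq_same]; exact hne))
    have hba : b ≠ a := fun h => by
      subst h
      rw [hb, rmul_E_val, Pi.single_eq_same] at h0
      exact hne h0
    have hzero : ∀ z, z a = 0 → herm v.1 z = 0 → z b = 0 := by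
      intro z hz1 hz2
      have h1 := herm_app y (E (F := F) a).1 z
      rw [← smul_val, hb, hy.2 z hz1 hz2, herm_E, hz1, rmul_E_val, herm_single] at h1
      exact eq_zero_of_adj_mul (det_ne_zero C) h1
    obtain rfl : b = k := by
      by_contra hbk
      have := hzero _ (hZa b hba) (hZv b)
      rw [hZl b hbk] at this
      exact hδ1 this
    right
    refine ⟨Finset.ext fun l => ?_, by rw [hb, refl2_rmul]⟩
    simp only [Finset.mem_insert, Finset.mem_singleton]
    refine ⟨fun hl => ?_, ?_⟩
    · by_contra h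
      push Not at h
      have := hzero _ (hZa l h.1) (hZv l)
      rw [hZk l h.2, neg_eq_zero] at this
      exact hX0 l hl this
    · rintro (rfl | rfl) <;> assumption
  set eY : Y := ⟨e, heY⟩ with heYdef
  set O : Subgroup Y := oddCore Y with hO
  -- the Z*-theorem
  have hconj : ∀ g : Y, ∃ x o : Y, o ∈ O ∧ Commute eY x ∧ g * eY * g⁻¹ = eY * x * o := by
    intro g
    have heY2 : eY * eY = 1 := Subtype.ext hee
    have heY1 : orderOf eY = 2 := by
      rw [heYdef, Subgroup.orderOf_mk, he, orderOf_refl2 h2]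
    have heYi : eY⁻¹ = eY := inv_eq_of_mul_eq_one_right heY2
    have hge : g * eY * g⁻¹ = eY * (eY * g * eY⁻¹ * g⁻¹) := by
      rw [heYi, ← mul_assoc, ← mul_assoc, ← mul_assoc, heY2, one_mul]
    by_cases hcase : s = {a, k}
    · obtain ⟨z, hz⟩ : ∃ z : SpQ F ι, z = e * refl2 (E k) := ⟨_, rfl⟩
      have hkY : refl2 (E (F := F) k) ∈ Y := ⟨hX.le k _ hnegQ, fun w hw1 hw2 => by
        refine phi_fix _ _ ?_
        rw [herm_E]
        rw [herm, Finset.sum_eq_single k] at hw2
        · exact eq_zero_of_adj_mul hk hw2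
        · intro t _ htk
          by_cases ht : t = a
          · rw [ht, hw1, mul_zero]
          · rw [hout t (by rw [hcase]; simp [ht, htk]), adj_zero, zero_mul]
        · simp⟩
      have hzY : z ∈ Y := hz ▸ Y.mul_mem heY hkY
      have happz : ∀ w : ι → R2 F,
          app z w = Function.update (Function.update w k (-w k)) a (-w a) := fun w => by
        rw [hz, he, app_mul, refl2, refl2, app_phi_E, app_phi_E, Function.update_of_ne hak]
        simp
      have hzapp : ∀ w : ι → R2 F, supp w ⊆ s → app z w = -w := fun w hw => by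
        rw [happz]
        funext t
        rcases eq_or_ne t a with rfl | hta
        · simp
        rcases eq_or_ne t k with rfl | htk
        · simp [Function.update_of_ne hta]
        · rw [Function.update_of_ne hta, Function.update_of_ne htk, Pi.neg_apply]
          have : w t = 0 := by
            by_contra h
            have := hw (mem_supp.2 h)
            rw [hcase] at this
            simp [hta, htk] at this
          rw [this, neg_zero]
      have hsE : ∀ u ∈ s, supp (E (F := F) u).1 ⊆ s := fun u hu t ht => by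
        by_contra h
        apply mem_supp.1 ht
        rw [E_val, Pi.single_eq_of_ne]
        rintro rfl; exact h hu
      have hcent : ∀ y ∈ Y, z * y = y * z := by
        intro y hy
        refine ext_E fun u => ?_
        by_cases hu : u ∈ s
        · apply Subtype.ext
          rw [smul_val, smul_val, app_mul, app_mul, hzapp _ (hsE u hu),
            hzapp (app y (E (F := F) u).1) (hsupp y hy u hu)]
          exact (Matrix.mulVec_neg _ _).symm
        · rw [mul_smul, mul_smul, hfix y hy u hu, hfix z hzY u hu, hfix y hy u hu]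
      set zY : Y := ⟨z, hzY⟩ with hzYdef
      have hcz : ∀ x : Y, zY * x = x * zY := fun x => Subtype.ext (hcent x x.2)
      have hz2 : zY * zY = 1 := Subtype.ext (by
        show z * z = 1
        have hc : refl2 (E (F := F) k) * z = z * refl2 (E k) := (hcent _ hkY).symm
        calc z * z = e * (refl2 (E k) * z) := by rw [hz]; simp only [mul_assoc]
          _ = e * (z * refl2 (E k)) := by rw [hc]
          _ = 1 := by
            rw [hz, ← mul_assoc, ← mul_assoc, hee, one_mul, refl2_sq])
      have hzne : zY ≠ 1 := fun h => by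
        have h1 : z = 1 := congrArg Subtype.val h
        have h3 := hzapp _ (hsE a has)
        rw [h1, app_one] at h3
        have h4 := congrFun h3 a
        simp only [E_val, Pi.neg_apply, Pi.single_eq_same] at h4
        have h5 : (2 : F) • (1 : R2 F) = 0 := by rw [two_smul]; exact eq_neg_iff_add_eq_zero.1 h4
        exact h2 ((smul_eq_zero.1 h5).resolve_right one_ne_zero)
      have hzord : orderOf zY = 2 := orderOf_eq_prime (by rw [sq]; exact hz2) hzne
      haveI : (Subgroup.zpowers zY).Normal := by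
        refine ⟨fun n hn x => ?_⟩
        rcases mem_zpowers_two hzord hn with rfl | rfl
        · simp
        · rw [← hcz x, mul_inv_cancel_right]; exact Subgroup.mem_zpowers _
      set π := QuotientGroup.mk' (Subgroup.zpowers zY) with hπ
      have hkerne : π eY ≠ 1 := fun h => by
        rcases mem_zpowers_two hzord ((QuotientGroup.eq_one_iff _).1 h) with h1 | h1
        · rw [h1, orderOf_one] at heY1; omega
        · have h3 : e = e * refl2 (E k) := (congrArg Subtype.val h1).trans hz
          have h4 : refl2 (E (F := F) k) = 1 := mul_eq_left.1 h3.symm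
          have := orderOf_refl2 h2 (E (F := F) k)
          rw [h4, orderOf_one] at this; omega
      have hiso : IsIsolatedInvolution (π eY) := by
        refine ⟨orderOf_eq_prime (by rw [← map_pow, sq, heY2, map_one]) hkerne, fun G hc => ?_⟩
        obtain ⟨g', rfl⟩ := QuotientGroup.mk'_surjective _ G
        rw [← map_inv, ← map_mul, ← map_mul] at hc ⊢
        obtain ⟨e', he'⟩ : ∃ e', e' = g' * eY * g'⁻¹ := ⟨_, rfl⟩
        rw [← he'] at hc ⊢
        have he'2 : e' * e' = 1 := by
          rw [he', conj_mul, heY2, mul_one, mul_inv_cancel]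
        have hmem : eY * e' * (eY * e') ∈ Subgroup.zpowers zY := by
          rw [← QuotientGroup.eq_one_iff]
          show π _ = 1
          rw [map_mul, map_mul]
          calc π eY * π e' * (π eY * π e') = π eY * (π e' * π eY) * π e' := by
                simp only [mul_assoc]
            _ = π (eY * eY) * π (e' * e') := by rw [← hc.eq, map_mul, map_mul]; simp only [mul_assoc]; rfl
            _ = 1 := by rw [heY2, he'2, map_one, one_mul]
        rcases mem_zpowers_two hzord hmem with h1 | h1
        · have hcomm : Commute e (g'.1 * e * g'.1⁻¹) := by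
            have h3 : eY * e' = e' * eY := by
              have h4 := mul_eq_one_iff_eq_inv.1 h1
              rw [_root_.mul_inv_rev, heYi, inv_eq_of_mul_eq_one_right he'2] at h4
              exact h4
            rw [he'] at h3
            exact congrArg Subtype.val h3
          rcases hclass g'.1 g'.2 hcomm with h5 | ⟨-, h5⟩
          · rw [show e' = eY from he'.trans (Subtype.ext h5)]
          · have : e' = eY * zY := he'.trans (Subtype.ext (by
              show g'.1 * e * g'.1⁻¹ = e * z
              rw [h5, hz, ← mul_assoc, hee, one_mul]))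
            rw [this, map_mul, show π zY = 1 from
              (QuotientGroup.eq_one_iff zY).2 (Subgroup.mem_zpowers _), mul_one]
        · exfalso
          have h3 : e' * eY * e' = eY * zY := by
            rw [← h1, ← mul_assoc eY (eY * e'), ← mul_assoc eY eY, heY2, one_mul, mul_assoc]
          have h4 : refl2 (g'.1 • E a) * e * refl2 (g'.1 • E a) = refl2 (E k) := by
            rw [he'] at h3
            have := congrArg Subtype.val h3
            change g'.1 * e * g'.1⁻¹ * e * (g'.1 * e * g'.1⁻¹) = e * z at this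
            rw [hconjY _ g'.2] at this
            rw [this, hz, ← mul_assoc, hee, one_mul]
          refine no_swap h2 D hX ((hX.qp a).smul g'.2.1) ?_ hak (fun t ht1 ht2 => ?_) h4
          · rw [← hconjY _ g'.2]
            exact X.mul_mem (X.mul_mem g'.2.1 heY.1) (X.inv_mem g'.2.1)
          · by_contra h
            have := hsupp g'.1 g'.2 a has (mem_supp.2 h)
            rw [hcase] at this
            simp [ht1, ht2] at this
      have hW := ZStar.zStar (Y ⧸ Subgroup.zpowers zY) (π eY) hiso (π g)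
      rw [← map_inv, ← map_inv, ← map_mul, ← map_mul, ← map_mul] at hW
      rcases mem_oddCore_or_of_mk_mem hzord hW with h | h
      · exact ⟨1, _, h, Commute.one_right _, by rw [mul_one]; exact hge⟩
      · refine ⟨zY, _, h, (hcz eY).symm, ?_⟩
        rw [hge, mul_assoc eY zY, ← mul_assoc zY zY, hz2, one_mul]
    · have hiso : IsIsolatedInvolution eY := by
        refine ⟨heY1, fun g' hc => ?_⟩
        rcases hclass g'.1 g'.2 (congrArg Subtype.val hc.eq) with h5 | ⟨h5, -⟩
        · exact Subtype.ext h5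
        · exact absurd h5 hcase
      exact ⟨1, _, ZStar.zStar Y eY hiso g, Commute.one_right _, by rw [mul_one]; exact hge⟩
  -- the involution does not centralise the odd core
  have hnc : ¬ ∀ o ∈ O, Commute eY o := by
    intro hall
    obtain ⟨x, o, ho, hx, hg⟩ := hconj ⟨refl2 v, hvY⟩
    have hc : Commute eY (eY * x * o) := ((Commute.refl eY).mul_right hx).mul_right (hall o ho)
    rw [← hg] at hc
    rcases hclass (refl2 v) hvY (congrArg Subtype.val hc.eq) with h | ⟨hcase, h⟩
    · have h' : refl2 v * e = e * refl2 v := mul_inv_eq_iff_eq_mul.1 h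
      rcases orth_or_same h2 h'.symm with h0 | ⟨C, hC⟩
      · rw [herm_E] at h0; exact hva h0
      · have : s ⊆ {a} := fun t ht => by
          rw [Finset.mem_singleton]
          by_contra hta
          apply mem_supp.1 ht
          rw [hC, rmul_E_val, Pi.single_eq_of_ne hta]
        have := Finset.card_le_card this
        rw [Finset.card_singleton] at this
        omega
    · rw [refl2_inv] at h
      refine no_swap h2 D hX hv hvX hak (fun t ht1 ht2 => hout t ?_) h
      rw [hcase]; simp [ht1, ht2]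
  have hOY : ∀ o ∈ O, Odd (orderOf o) := fun o ho => by
    have hcop : Nat.Coprime (Nat.card O) 2 := PSolvable.pPrimeCore_coprime
    exact (Nat.coprime_two_right.1 hcop).of_dvd_nat (Subgroup.orderOf_dvd_natCard O ho)
  have hOn : ∀ o ∈ O, ∀ g : Y, g * o * g⁻¹ ∈ O := fun o ho g =>
    (inferInstance : (oddCore Y).Normal).conj_mem o ho g
  have hQ8 : ∀ q ∈ (Q : Subgroup (SLtwo F)), q ^ 2 ^ 3 = 1 := fun q hq => by
    rw [← orderOf_dvd_iff_pow_eq_one, show (2 : ℕ) ^ 3 = 8 by norm_num, ← D.card]
    exact Subgroup.orderOf_dvd_natCard _ hq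
  -- fixed point freeness
  have hfree : ∀ o ∈ O, Commute eY o → o = 1 := by
    intro o ho hc
    set y : SpQ F ι := o.1 with hy
    have hyY : y ∈ Y := o.2
    obtain ⟨N, hN⟩ := hOY o ho
    have hyN : y ^ (2 * N + 1) = 1 := by
      rw [← hN, hy, ← SubmonoidClass.coe_pow, pow_orderOf_eq_one]; rfl
    obtain ⟨A, hA⟩ := smul_E_of_commute h2 (g := y) (a := a) (congrArg Subtype.val hc.eq).symm
    have hA1 : A = 1 := by
      have hcq : ∀ q ∈ (Q : Subgroup (SLtwo F)), A * q = q * A := by
        intro q hq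
        set p : Y := ⟨Phi (E a) q, hphiY q hq⟩ with hp
        have hcO : o * p * o⁻¹ * p⁻¹ ∈ O := by
          rw [show o * p * o⁻¹ * p⁻¹ = o * (p * o⁻¹ * p⁻¹) by simp only [mul_assoc]]
          exact mul_mem ho (hOn _ (inv_mem ho) p)
        have hval : (o * p * o⁻¹ * p⁻¹ : Y).1 = Phi (E a) (A * q * A⁻¹ * q⁻¹) := by
          show y * Phi (E a) q * y⁻¹ * (Phi (E a) q)⁻¹ = _
          rw [phi_conj, hA, phi_rmul, ← map_inv, ← map_mul]
        obtain ⟨M, hM⟩ := hOY _ hcO
        have hcQ : A * q * A⁻¹ * q⁻¹ ∈ (Q : Subgroup (SLtwo F)) := by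
          refine hX.eq a _ ?_
          rw [← hval]; exact (o * p * o⁻¹ * p⁻¹ : Y).2.1
        have h1 : (A * q * A⁻¹ * q⁻¹) ^ (2 * M + 1) = 1 := phi_injective (E a) (by
          rw [map_pow, map_one, ← hval, ← SubmonoidClass.coe_pow, ← hM, pow_orderOf_eq_one]; rfl)
        have := eq_one_of_pow_two_odd (hQ8 _ hcQ) h1 ⟨M, rfl⟩
        rwa [mul_inv_eq_one, mul_inv_eq_iff_eq_mul] at this
      rcases D.eq_one_or (hcq _ D.hi) (hcq _ D.hj) with h | h
      · exact h
      · exfalso
        have h1 := pow_smul_rmul y (E a) A hA (2 * N + 1)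
        rw [hyN, one_smul, h, Odd.neg_one_pow ⟨N, rfl⟩] at h1
        have h3 := rmul_injective (E (F := F) a) ((rmul_one _).trans h1)
        have h4 := congrArg (fun M : SLtwo F => (M : R2 F) 0 0) h3
        simp at h4
        exact h2 (by linear_combination h4)
    rw [hA1, rmul_one] at hA
    have himg : ∀ t ∈ s, t ≠ a → ∃ b C, b ∈ s ∧ b ≠ a ∧ y • E (F := F) t = rmul (E b) C := by
      intro t ht hta
      have h0 : (y • E (F := F) t).1 a = 0 := by
        have h1 := herm_app y (E (F := F) a).1 (E t).1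
        rw [← smul_val, ← smul_val, hA, herm_E, herm_E] at h1
        rw [h1, E_val, Pi.single_eq_of_ne hta.symm]
      obtain ⟨b, C, hb⟩ := hIH _ ((hX.qp t).smul hyY.1) (hsub _ (hsupp y hyY t ht) h0)
      refine ⟨b, C, hsupp y hyY t ht (mem_supp.2 ?_), fun h => ?_, hb⟩
      · rw [hb, rmul_E_val, Pi.single_eq_same]; exact hne
      · rw [hb, h, rmul_E_val, Pi.single_eq_same] at h0; exact hne h0
    obtain ⟨bk, Ck, hbks, hbka, hbk⟩ := himg k hks hak.symm
    have hcoord : ∀ l ∈ s, l ≠ a → l ≠ k → ∀ b C, y • E (F := F) l = rmul (E b) C →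
        (b = l ∨ b = k) ∧ b ≠ bk ∧ (C : R2 F) * (δ • (1 : R2 F)) = Z l b := by
      intro l hl hla hlk b C hb
      have hne' : b ≠ bk := fun h => by
        have h1 := herm_app y (E (F := F) l).1 (E k).1
        rw [← smul_val, ← smul_val, hb, hbk, h, rmul_E_val, rmul_E_val, herm_single,
          Pi.single_eq_same, herm_E, E_val, Pi.single_eq_of_ne hlk] at h1
        exact hne (eq_zero_of_adj_mul (det_ne_zero C) h1)
      have h2' := congrFun (hY y hyY l hla) b
      rw [app_add, app_single, app_single, hb, hbk, rmul_E_val, rmul_E_val, Pi.add_apply] at h2'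
      simp only [sc, Pi.single_eq_same, Pi.single_eq_of_ne hne', zero_mul, add_zero] at h2'
      refine ⟨?_, hne', h2'⟩
      by_contra h
      push Not at h
      rw [show Z l b = 0 by simp [Z, h.1, h.2], mul_smul_comm, mul_one] at h2'
      exact hne ((smul_eq_zero.1 h2').resolve_left hk)
    have hbkk : bk = k := by
      by_contra hne0
      obtain ⟨b, C, -, -, hb⟩ := himg bk hbks hbka
      obtain ⟨hb1, hb2, -⟩ := hcoord bk hbks hbka hne0 b C hb
      obtain rfl := hb1.resolve_left hb2
      have hev : ∀ j : ℕ, ∃ C' : SLtwo F, y ^ (2 * j) • E b = rmul (E b) C' := by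
        intro j
        induction j with
        | zero => exact ⟨1, by rw [mul_zero, pow_zero, one_smul, rmul_one]⟩
        | succ j ih =>
          obtain ⟨C', hC'⟩ := ih
          refine ⟨C * Ck * C', ?_⟩
          rw [show 2 * (j + 1) = (2 * j) + 1 + 1 by ring, pow_succ', pow_succ', mul_smul, mul_smul,
            hC', smul_rmul, hbk, rmul_rmul, smul_rmul, hb, rmul_rmul]
          simp only [mul_assoc]
      obtain ⟨C', hC'⟩ := hev N
      have h1 : rmul (E bk) (Ck * C') = rmul (E (F := F) b) 1 := by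
        rw [rmul_one, ← rmul_rmul, ← hbk, ← smul_rmul, ← hC', ← mul_smul, ← pow_succ', hyN,
          one_smul]
      exact hne0 (rmul_E_inj h1).1
    rw [hbkk] at hbk hcoord
    have hl1 : ∀ l ∈ s, l ≠ a → l ≠ k → y • E (F := F) l = E l := by
      intro l hl hla hlk
      obtain ⟨b, C, -, -, hb⟩ := himg l hl hla
      obtain ⟨hb1, hb2, hb3⟩ := hcoord l hl hla hlk b C hb
      obtain rfl := hb1.resolve_right hb2
      rw [hZl b hlk, mul_smul_comm, mul_one] at hb3
      have hC : C = 1 := Subtype.ext (smul_right_injective (R2 F) hk hb3)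
      rw [hb, hC, rmul_one]
    have hyk : y = Phi (E k) Ck := by
      refine ext_E fun u => ?_
      rcases eq_or_ne u k with rfl | huk
      · rw [hbk, phi_smul_self]
      have hu : Phi (E k) Ck • E (F := F) u = E u := Subtype.ext (phi_fix _ _ (by
        rw [herm_E, E_val, Pi.single_eq_of_ne huk.symm]))
      rw [hu]
      by_cases hus : u ∈ s
      · rcases eq_or_ne u a with rfl | hua
        · exact hA
        · exact hl1 u hus hua huk
      · exact hfix y hyY u hus
    have hCn : Ck ∈ Subgroup.normalizer ((Q : Subgroup (SLtwo F)) : Set (SLtwo F)) := by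
      refine mem_normalizer_of_forall fun q hq => hX.eq k _ ?_
      rw [← phi_rmul, ← hbk, ← phi_conj]
      exact X.mul_mem (X.mul_mem hyY.1 (hX.le k q hq)) (X.inv_mem hyY.1)
    obtain ⟨c, hc'⟩ := D.exists_pow Ck hCn
    have h3 : 3 ∣ c := by
      have hmem : Phi (E (F := F) k) (D.w ^ c) ∈ X := by
        rw [show D.w ^ c = (Ck * (D.w ^ c)⁻¹)⁻¹ * Ck by group, map_mul, map_inv, ← hyk]
        exact X.mul_mem (X.inv_mem (hX.le k _ hc')) hyY.1
      have h := hX.noBad (Pi.single k c) (by
        rw [← diagQ_mulSingle] at hmem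
        convert hmem using 2
        funext t
        rcases eq_or_ne t k with rfl | h
        · simp
        · simp [h])
      simpa using h
    have hCQ : Ck ∈ (Q : Subgroup (SLtwo F)) := by
      rw [show Ck = Ck * (D.w ^ c)⁻¹ * D.w ^ c by group]
      exact mul_mem hc' (D.w_pow_mem h3)
    have hCN : Ck ^ (2 * N + 1) = 1 := phi_injective (E (F := F) k) (by
      rw [map_pow, ← hyk, hyN, map_one])
    rw [eq_one_of_pow_two_odd (hQ8 _ hCQ) hCN ⟨N, rfl⟩, map_one] at hyk
    exact Subtype.ext hyk
  -- so the involution inverts the odd core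
  have hinv : ∀ o ∈ O, eY * o * eY⁻¹ = o⁻¹ := by
    have heYi : eY⁻¹ = eY := Subtype.ext hei
    let f : O → O := fun x => ⟨(x : Y)⁻¹ * (eY * x * eY⁻¹),
      mul_mem (inv_mem x.2) (hOn _ x.2 eY)⟩
    have hf : Function.Injective f := by
      rintro ⟨x, hx⟩ ⟨x', hx'⟩ h
      have h' : x⁻¹ * (eY * x * eY⁻¹) = x'⁻¹ * (eY * x' * eY⁻¹) := congrArg Subtype.val h
      have hc : Commute eY (x' * x⁻¹) := by
        show eY * (x' * x⁻¹) = x' * x⁻¹ * eY
        have e2 : eY * x * eY⁻¹ = x * x'⁻¹ * (eY * x' * eY⁻¹) := by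
          rw [mul_assoc x, ← h', mul_inv_cancel_left]
        calc eY * (x' * x⁻¹) = eY * x' * eY⁻¹ * (eY * x * eY⁻¹)⁻¹ * eY := by group
          _ = _ := by rw [e2]; group
      exact Subtype.ext (mul_inv_eq_one.1 (hfree _ (mul_mem hx' (inv_mem hx)) hc)).symm
    intro o ho
    obtain ⟨⟨x, hx⟩, hxo⟩ := (Finite.injective_iff_surjective.1 hf) ⟨o, ho⟩
    have hx' : x⁻¹ * (eY * x * eY⁻¹) = o := congrArg Subtype.val hxo
    have hee' : eY * eY = 1 := Subtype.ext hee
    rw [← hx', heYi, _root_.mul_inv_rev, _root_.mul_inv_rev, _root_.mul_inv_rev, heYi, inv_inv]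
    calc eY * (x⁻¹ * (eY * x * eY)) * eY = eY * x⁻¹ * eY * x * (eY * eY) := by
          simp only [mul_assoc]
      _ = eY * (x⁻¹ * eY) * x := by rw [hee', mul_one, mul_assoc eY]
      _ = _ := by simp only [mul_assoc]
  have habel : ∀ o ∈ O, ∀ o' ∈ O, o * o' = o' * o := by
    intro o ho o' ho'
    have h := hinv _ (mul_mem ho ho')
    rw [← conj_mul, hinv o ho, hinv o' ho', _root_.mul_inv_rev] at h
    have := congrArg (·⁻¹) h
    simpa [_root_.mul_inv_rev] using this.symm
  refine hnc fun o ho => ?_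
  set y : SpQ F ι := o.1 with hy
  have hey : e * y * e = y⁻¹ := by
    have := congrArg Subtype.val (hinv o ho)
    change e * y * e⁻¹ = y⁻¹ at this
    rwa [hei] at this
  have hcol : ∀ t, t ≠ a → (y • E (F := F) a).1 t = 0 := by
    intro t hta
    set B : R2 F := (y • E (F := F) t).1 a with hB
    set r : R2 F := (y • E (F := F) a).1 t with hr
    have hrB : r = -adjugate B := by
      have hEa : app e (E (F := F) a).1 = -(E a).1 := app_refl2_self _
      have h1 : app (e * y * e) (E (F := F) a).1 t = -r := by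
        rw [app_mul, app_mul, hEa, he, refl2, app_phi_E, Function.update_of_ne hta]
        show app y (-(E (F := F) a).1) t = -r
        rw [show app y (-(E (F := F) a).1) = -app y (E a).1 from Matrix.mulVec_neg _ _]
        rfl
      have h3 : app y⁻¹ (E (F := F) a).1 t = adjugate B := by
        rw [← herm_E t (app y⁻¹ (E (F := F) a).1), ← herm_app y, app_app_inv, herm_E_right]
        rfl
      rw [hey, h3] at h1
      rw [h1, neg_neg]
    have hq : ∀ q ∈ (Q : Subgroup (SLtwo F)),
        adjugate B * (q : R2 F) * B = adjugate B * adjugate (q : R2 F) * B := by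
      intro q hq
      set p : Y := ⟨Phi (E a) q, hphiY q hq⟩ with hp
      have hc := congrArg Subtype.val (habel o ho _ (hOn o ho p))
      change y * (Phi (E a) q * y * (Phi (E a) q)⁻¹) = Phi (E a) q * y * (Phi (E a) q)⁻¹ * y at hc
      have h1 := congrFun (congrArg (fun g => app g (E (F := F) t).1) hc) t
      simp only [app_mul, ← map_inv] at h1
      rw [phi_fix (E a) q⁻¹ (z := (E (F := F) t).1)
        (by rw [herm_E, E_val, Pi.single_eq_of_ne hta.symm])] at h1
      have happ : ∀ (A : SLtwo F) (z : ι → R2 F),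
          app y (app (Phi (E a) A) z) t = app y z t + r * (((A : R2 F) - 1) * z a) := by
        intro A z
        rw [app_phi, app_add, herm_E, sc_E, app_single]
        rfl
      have h2' : ∀ (A : SLtwo F) (z : ι → R2 F), app (Phi (E a) A) z t = z t := fun A z => by
        rw [app_phi_E, Function.update_of_ne hta]
      rw [h2', happ, happ] at h1
      have h3 : r * (((q : R2 F) - 1) * B) = r * (((q⁻¹ : SLtwo F) : R2 F) - 1) * B := by
        rw [mul_assoc r]; exact add_left_cancel h1
      rw [hrB, coe_inv_eq_adj] at h3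
      simp only [sub_mul, mul_sub, one_mul, mul_one, neg_mul, mul_assoc] at h3 ⊢
      simpa using h3
    have hx : ∀ x : SLtwo F, x ∈ (Q : Subgroup (SLtwo F)) →
        adjugate (x : R2 F) = -(x : R2 F) → adjugate B * (x : R2 F) * B = 0 := fun x hx hax => by
      have h := hq x hx
      rw [hax, mul_neg, neg_mul] at h
      have h4 : (2 : F) • (adjugate B * (x : R2 F) * B) = 0 := by
        rw [two_smul]; exact eq_neg_iff_add_eq_zero.1 h
      exact (smul_eq_zero.1 h4).resolve_left h2
    have hi := hx D.i D.hi D.adj_i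
    have hB1 : adjugate B * B = 0 := by
      by_contra hd
      rw [adj_mul_self] at hd
      have hdet : B.det ≠ 0 := fun h => hd (by rw [h, zero_smul])
      rw [mul_assoc] at hi
      have hB0 := eq_zero_of_mul_left (det_ne_zero D.i) (eq_zero_of_adj_mul hdet hi)
      exact hdet (by rw [hB0]; simp)
    have hij : adjugate ((D.i * D.j : SLtwo F) : R2 F) = -((D.i * D.j : SLtwo F) : R2 F) := by
      rw [Matrix.SpecialLinearGroup.coe_mul, adjugate_mul_distrib, D.adj_i, D.adj_j, neg_mul_neg]
      exact D.ji''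
    have hk' := hx _ (mul_mem D.hi D.hj) hij
    rw [Matrix.SpecialLinearGroup.coe_mul] at hk'
    have hB0 : B = 0 := D.sandwich h2 hB1 hi (hx D.j D.hj D.adj_j) hk'
    rw [hrB, hB0, adj_zero, neg_zero]
  obtain ⟨C, hC⟩ := exists_eq_rmul_E hcol
  have h := refl2_conj y (E (F := F) a)
  rw [hC, refl2_rmul, ← he, mul_inv_eq_iff_eq_mul] at h
  exact Subtype.ext h.symm

/-- An overgroup without bad diagonal elements has only the standard planes. -/
theorem exists_eq_rmul_of_qp (h2 : (2 : F) ≠ 0) {Q : Sylow 2 (SLtwo F)}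
    (D : QCase (Q : Subgroup (SLtwo F))) {X : Subgroup (SpQ F ι)} (hX : Hyp D X) :
    ∀ v : UV F ι, IsQP X v → ∃ b C, v = rmul (E b) C := by
  suffices h : ∀ (n : ℕ) (v : UV F ι), (supp v.1).card = n → IsQP X v →
      ∃ b C, v = rmul (E b) C from fun v hv => h _ v rfl hv
  intro n
  induction n using Nat.strong_induction_on with
  | _ n ih =>
  intro v hn hv
  by_cases h1 : 1 < (supp v.1).card
  · exact (false_of_support h2 D hX hv h1 fun u hu hsub =>
      ih _ (hn ▸ Finset.card_lt_card hsub) u rfl hu).elim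
  · obtain ⟨k, hk⟩ := exists_det_ne_zero v
    obtain ⟨C, hC⟩ := exists_eq_rmul_E (v := v) (b := k) fun t ht => by
      by_contra h
      refine h1 (Finset.one_lt_card.2 ⟨t, mem_supp.2 h, k, mem_supp.2 fun h0 => hk ?_, ht⟩)
      rw [h0]; simp
    exact ⟨k, C, hC⟩

end Cfsg.Agent.Lib.PronormalSp1
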