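import Mathlib
import Cfsg.Agent.Lib.PronormalSp1.Model

/-!
The symplectic group in quaternion coordinates.
-/

set_option autoImplicit false

namespace Cfsg.Agent.Lib.PronormalSp1

open Matrix

variable {F : Type} [Field F] {n : ℕ}

/-- Regrouping of the coordinates. -/
def pairEquiv (n : ℕ) : Fin n ⊕ Fin n ≃ Fin n × Fin 2 where
  toFun := Sum.elim (fun t => (t, 0)) (fun t => (t, 1))
  invFun p := if p.2 = 0 then Sum.inl p.1 else Sum.inr p.1
  left_inv := by rintro (t | t) <;> simp
  right_inv := by
    rintro ⟨t, u⟩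
    fin_cases u <;> simp

/-- The matrices as two by two block matrices. -/
noncomputable def blocks (n : ℕ) :
    Matrix (Fin n ⊕ Fin n) (Fin n ⊕ Fin n) F ≃+* Matrix (Fin n) (Fin n) (R2 F) :=
  (Matrix.reindexAlgEquiv F F (pairEquiv n)).toRingEquiv.trans
    (Matrix.compRingEquiv (Fin n) (Fin 2) F).symm

theorem blocks_apply (A : Matrix (Fin n ⊕ Fin n) (Fin n ⊕ Fin n) F) (a b : Fin n) (u v : Fin 2) :
    blocks n A a b u v = A ((pairEquiv n).symm (a, u)) ((pairEquiv n).symm (b, v)) := rfl

theorem dag_blocks (A : Matrix (Fin n ⊕ Fin n) (Fin n ⊕ Fin n) F) :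
    dag (blocks n A) = blocks n (-(J (Fin n) F * Aᵀ * J (Fin n) F)) := by
  have e0 : ∀ t : Fin n, (pairEquiv n).symm (t, 0) = Sum.inl t := fun t => rfl
  have e1 : ∀ t : Fin n, (pairEquiv n).symm (t, 1) = Sum.inr t := fun t => rfl
  ext a b u v
  show adjugate (blocks n A b a) u v = _
  rw [blocks_apply, Matrix.adjugate_fin_two]
  fin_cases u <;> fin_cases v <;>
    simp [blocks_apply, e0, e1, Matrix.J, Matrix.mul_apply, Matrix.one_apply, Fintype.sum_sum_type]

/-- The symplectic group is the unitary group over the two by two matrices. -/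
noncomputable def spEquiv (n : ℕ) : Matrix.symplecticGroup (Fin n) F ≃* SpQ F (Fin n) where
  toFun A := ⟨Units.map (blocks n).toRingHom.toMonoidHom
      { val := A.1
        inv := (A⁻¹).1
        val_inv := congrArg Subtype.val (mul_inv_cancel A)
        inv_val := congrArg Subtype.val (inv_mul_cancel A) }, by
    show dag (blocks n A.1) * blocks n A.1 = 1
    rw [dag_blocks, ← map_mul, ← map_one (blocks (F := F) n)]
    congr 1
    rw [neg_mul, SymplecticGroup.inv_left_mul_aux A.2]⟩
  invFun g := ⟨(blocks n).symm g.1.val, by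
    rw [SymplecticGroup.mem_iff']
    set A := (blocks n).symm g.1.val with hA
    have h : blocks n (-(J (Fin n) F * Aᵀ * J (Fin n) F) * A) = blocks n 1 := by
      rw [map_mul, ← dag_blocks, hA, RingEquiv.apply_symm_apply, g.2, map_one]
    have h1 := congrArg (fun M => -(J (Fin n) F) * M) ((blocks n).injective h)
    simp only [neg_mul, mul_one, mul_neg, neg_neg, ← mul_assoc, Matrix.J_squared,
      neg_one_mul] at h1
    simpa using h1⟩
  left_inv A := Subtype.ext ((blocks n).symm_apply_apply _)
  right_inv g := Subtype.ext (Units.ext ((blocks n).apply_symm_apply _))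
  map_mul' A B := Subtype.ext (Units.ext (map_mul (blocks n) _ _))

end Cfsg.Agent.Lib.PronormalSp1
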