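import Mathlib
import Cfsg.Agent.Lib.SylowTwoPerm.Basic
import Cfsg.Agent.Lib.PronormalOddIndex.Two

/-!
Sylow 2-subgroups of the symmetric group of 2-power degree: transitive, self-normalizing.
-/

set_option autoImplicit false

namespace Cfsg.Agent.Lib.PronormalSp1

open Cfsg.Agent.Lib.PronormalOddIndex

theorem sylow_perm_transitive {n k : ℕ} (hn : n = 2 ^ k) (W : Sylow 2 (Equiv.Perm (Fin n)))
    (x y : Fin n) : ∃ π ∈ (W : Subgroup (Equiv.Perm (Fin n))), π x = y := by
  classical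
  haveI : Fact (Nat.Prime 2) := ⟨Nat.prime_two⟩
  let P := Equiv.Perm (Fin n)
  set St := MulAction.stabilizer P x with hSt
  have hidx : St.index = 2 ^ k := by
    rw [hSt, MulAction.index_stabilizer_of_transitive, Nat.card_fin, hn]
  have hW : ¬ 2 ∣ (W : Subgroup P).index := W.not_dvd_index
  have h1 : 2 ^ k ∣ (St ⊓ (W : Subgroup P)).index :=
    hidx ▸ Subgroup.index_dvd_of_le inf_le_left
  rw [← Subgroup.relIndex_mul_index (inf_le_right : St ⊓ (W : Subgroup P) ≤ W),
    Subgroup.inf_relIndex_right] at h1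
  have h2 : 2 ^ k ∣ St.relIndex (W : Subgroup P) :=
    (Nat.Coprime.pow_left k (Nat.prime_two.coprime_iff_not_dvd.2 hW)).dvd_of_dvd_mul_right h1
  have h3 : St.relIndex (W : Subgroup P) = (MulAction.orbit (W : Subgroup P) x).ncard := by
    rw [← MulAction.index_stabilizer]
    rfl
  have h4 : (MulAction.orbit (W : Subgroup P) x).ncard ≤ 2 ^ k := by
    have h := Set.ncard_le_ncard (Set.subset_univ (MulAction.orbit (W : Subgroup P) x)) (Set.toFinite _)
    rw [Set.ncard_univ, Nat.card_fin] at h; exact h.trans hn.le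
  have h5 : 0 < (MulAction.orbit (W : Subgroup P) x).ncard :=
    (Set.ncard_pos (Set.toFinite _)).2 ⟨x, MulAction.mem_orbit_self _⟩
  have h6 : MulAction.orbit (W : Subgroup P) x = Set.univ := by
    refine Set.eq_of_subset_of_ncard_le (Set.subset_univ _) ?_ (Set.toFinite _)
    rw [Set.ncard_univ, Nat.card_fin]
    rw [← h3] at h5 ⊢
    exact hn.le.trans (Nat.le_of_dvd h5 h2)
  obtain ⟨⟨π, hπ⟩, he⟩ : y ∈ MulAction.orbit (W : Subgroup P) x := by rw [h6]; trivial
  exact ⟨π, hπ, he⟩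

theorem sylow_perm_self_normalizing {n : ℕ} (W : Sylow 2 (Equiv.Perm (Fin n)))
    {g : Equiv.Perm (Fin n)}
    (hg : g ∈ Subgroup.normalizer ((W : Subgroup (Equiv.Perm (Fin n))) : Set (Equiv.Perm (Fin n)))) :
    g ∈ (W : Subgroup (Equiv.Perm (Fin n))) := by
  obtain ⟨j, m, hm, hj⟩ := Nat.exists_eq_pow_mul_and_not_dvd (orderOf_pos g).ne' 2 (by norm_num)
  refine two_element_mem W (k := j) hg ?_
  refine SylowTwoPerm.odd_normalizer_sylow_perm n W _ (pow_mem hg _) ?_
  refine Odd.of_dvd_nat (Nat.not_even_iff_odd.1 fun h => hm h.two_dvd)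
    (orderOf_dvd_of_pow_eq_one ?_)
  rw [← pow_mul, ← hj, pow_orderOf_eq_one]

end Cfsg.Agent.Lib.PronormalSp1
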