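import Mathlib
import Cfsg.Agent.Lib.PronormalSp1.Model
import Cfsg.Agent.Lib.PronormalSp1.Bridge
import Cfsg.Agent.Lib.PronormalSp1.Perm
import Cfsg.Agent.Lib.ClassicalSylowTwo.Symp

/-!
The monomial Sylow 2-subgroup and its normalizer.
-/

set_option autoImplicit false

namespace Cfsg.Agent.Lib.PronormalSp1

open Matrix Cfsg.Agent.Lib Cfsg.Agent.Lib.SL2 Cfsg.Agent.Lib.PronormalOddIndex

variable {F : Type} [Field F] {n : ℕ}

/-- Monomial elements with coefficients in `Q` and permutations in `W`. -/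
def monoSub (Q : Subgroup (SLtwo F)) (W : Subgroup (Equiv.Perm (Fin n))) :
    Subgroup (SpQ F (Fin n)) where
  carrier := {g | ∃ π ∈ W, ∃ C : Fin n → SLtwo F, (∀ t, C t ∈ Q) ∧ g = permQ π * diagQ C}
  one_mem' := ⟨1, one_mem _, 1, fun t => one_mem _, by simp⟩
  mul_mem' := by
    rintro g h ⟨π, hπ, C, hC, rfl⟩ ⟨ρ, hρ, D, hD, rfl⟩
    exact ⟨π * ρ, mul_mem hπ hρ, _, fun t => mul_mem (hC _) (hD t), mono_mul π ρ C D⟩
  inv_mem' := by
    rintro g ⟨π, hπ, C, hC, rfl⟩
    refine ⟨π⁻¹, inv_mem hπ, fun t => (C (π⁻¹ t))⁻¹, fun t => inv_mem (hC _), ?_⟩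
    refine inv_eq_of_mul_eq_one_right ?_
    rw [mono_mul, mul_inv_cancel, map_one, one_mul]
    refine (congrArg diagQ ?_).trans (map_one _)
    funext t
    exact mul_inv_cancel _

variable {Q : Subgroup (SLtwo F)} {W : Subgroup (Equiv.Perm (Fin n))}

theorem diag_mem_monoSub {C : Fin n → SLtwo F} (h : ∀ t, C t ∈ Q) : diagQ C ∈ monoSub Q W :=
  ⟨1, one_mem _, C, h, by rw [map_one, one_mul]⟩

theorem perm_mem_monoSub {π : Equiv.Perm (Fin n)} (h : π ∈ W) :
    permQ (F := F) π ∈ monoSub Q W :=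
  ⟨π, h, 1, fun _ => one_mem _, by rw [map_one, mul_one]⟩

theorem phi_mem_monoSub {t : Fin n} {q : SLtwo F} (h : q ∈ Q) : Phi (E t) q ∈ monoSub Q W := by
  classical
  rw [← diagQ_mulSingle]
  refine diag_mem_monoSub fun u => ?_
  rcases eq_or_ne u t with rfl | hu
  · simpa using h
  · simp [hu]

theorem mem_of_mono_mem {π : Equiv.Perm (Fin n)} {C : Fin n → SLtwo F}
    (h : permQ π * diagQ C ∈ monoSub Q W) : π ∈ W ∧ ∀ t, C t ∈ Q := by
  obtain ⟨ρ, hρ, D, hD, e⟩ := h
  obtain ⟨rfl, rfl⟩ := mono_inj e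
  exact ⟨hρ, hD⟩

theorem mem_of_phi_mem {t : Fin n} {A : SLtwo F} (h : Phi (E t) A ∈ monoSub Q W) : A ∈ Q := by
  classical
  rw [← diagQ_mulSingle, ← one_mul (diagQ _), ← map_one (permQ (F := F) (ι := Fin n))] at h
  simpa using (mem_of_mono_mem h).2 t

theorem card_monoSub : Nat.card (monoSub Q W) = Nat.card W * Nat.card Q ^ n := by
  classical
  let f : W × (Fin n → Q) → monoSub Q W := fun p =>
    ⟨permQ (p.1 : Equiv.Perm (Fin n)) * diagQ (fun t => (p.2 t : SLtwo F)),
      p.1, p.1.2, _, fun t => (p.2 t).2, rfl⟩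
  have hf : Function.Bijective f := by
    refine ⟨?_, ?_⟩
    · rintro ⟨π, C⟩ ⟨ρ, D⟩ h
      obtain ⟨h1, h2⟩ := mono_inj (congrArg Subtype.val h)
      exact Prod.ext (Subtype.ext h1) (funext fun t => Subtype.ext (congrFun h2 t))
    · rintro ⟨_, π, hπ, C, hC, rfl⟩
      exact ⟨(⟨π, hπ⟩, fun t => ⟨C t, hC t⟩), rfl⟩
  rw [← Nat.card_eq_of_bijective f hf, Nat.card_prod, Nat.card_fun, Nat.card_fin]

/-- Constant diagonal elements. -/
def dC : SLtwo F →* SpQ F (Fin n) :=
  MonoidHom.mk' (fun C => diagQ fun _ => C) fun C D => by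
    rw [← map_mul]; rfl

theorem dC_apply (C : SLtwo F) : dC C = diagQ (fun _ : Fin n => C) := rfl

theorem dC_smul_E (C : SLtwo F) (t : Fin n) :
    (dC C : SpQ F (Fin n)) • E (F := F) t = rmul (E t) C := by
  have h := mono_smul_E (1 : Equiv.Perm (Fin n)) (fun _ => C) t
  rwa [map_one, one_mul] at h

variable [Fintype F]

theorem card_sylow_SLtwo (hodd : Odd (Fintype.card F)) (P : Sylow 2 (SLtwo F)) :
    Nat.card (P : Subgroup (SLtwo F)) = 2 ^ padicValNat 2 (Fintype.card F ^ 2 - 1) ∧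
      8 ≤ Nat.card (P : Subgroup (SLtwo F)) := by
  haveI : Fact (Nat.Prime 2) := ⟨Nat.prime_two⟩
  obtain ⟨k, hk, hfac, -⟩ := LinGroup.exists_sylow_two_equiv_quaternion hodd P
  constructor
  · rw [P.card_eq_multiplicity, card_SLtwo, Nat.factorization_def _ Nat.prime_two]
    congr 1
    have hq : 2 ≤ Fintype.card F := Fintype.one_lt_card
    have hq2 : Fintype.card F ^ 2 - 1 ≠ 0 := by
      have : 2 ^ 2 ≤ Fintype.card F ^ 2 := Nat.pow_le_pow_left hq 2
      omega
    rw [padicValNat.mul (by omega) hq2, padicValNat.eq_zero_of_not_dvd, zero_add]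
    intro h
    rw [Nat.odd_iff] at hodd
    omega
  · rw [P.card_eq_multiplicity, hfac]
    calc (8 : ℕ) = 4 * 2 ^ 1 := by norm_num
      _ ≤ 4 * 2 ^ k := Nat.mul_le_mul_left 4 (Nat.pow_le_pow_right two_pos hk)

theorem card_monoSub_sylow (hodd : Odd (Fintype.card F)) (P : Sylow 2 (SLtwo F))
    (W : Sylow 2 (Equiv.Perm (Fin n))) :
    Nat.card (monoSub (P : Subgroup (SLtwo F)) (W : Subgroup (Equiv.Perm (Fin n)))) =
      2 ^ (Nat.card (SpQ F (Fin n))).factorization 2 := by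
  haveI : Fact (Nat.Prime 2) := ⟨Nat.prime_two⟩
  rw [card_monoSub, ← Nat.card_congr (spEquiv (F := F) n).toEquiv,
    ClassicalSylowTwo.v_symplectic hodd, (card_sylow_SLtwo hodd P).1, W.card_eq_multiplicity,
    Nat.card_perm, Nat.card_fin, Nat.factorization_def _ Nat.prime_two, ← pow_mul, ← pow_add]
  congr 1
  ring

/-- The monomial Sylow subgroup. -/
noncomputable def monoSylow (hodd : Odd (Fintype.card F)) (P : Sylow 2 (SLtwo F))
    (W : Sylow 2 (Equiv.Perm (Fin n))) : Sylow 2 (SpQ F (Fin n)) :=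
  haveI : Fact (Nat.Prime 2) := ⟨Nat.prime_two⟩
  Sylow.ofCard (monoSub (P : Subgroup (SLtwo F)) W) (card_monoSub_sylow hodd P W)

theorem coe_monoSylow (hodd : Odd (Fintype.card F)) (P : Sylow 2 (SLtwo F))
    (W : Sylow 2 (Equiv.Perm (Fin n))) :
    (monoSylow hodd P W : Subgroup (SpQ F (Fin n))) =
      monoSub (P : Subgroup (SLtwo F)) (W : Subgroup (Equiv.Perm (Fin n))) := rfl

theorem dC_normalizer {C : SLtwo F}
    (hC : C ∈ Subgroup.normalizer (Q : Set (SLtwo F))) :
    dC C ∈ Subgroup.normalizer ((monoSub Q W : Subgroup (SpQ F (Fin n))) : Set (SpQ F (Fin n))) := by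
  refine mem_normalizer_of_forall fun g hg => ?_
  obtain ⟨π, hπ, D, hD, rfl⟩ := hg
  refine ⟨π, hπ, fun t => C * D t * C⁻¹, fun t => (Subgroup.mem_normalizer_iff.1 hC _).1 (hD t), ?_⟩
  rw [dC_apply, ← mul_assoc, diag_comm_perm, mul_assoc, mul_assoc, ← map_inv, ← map_mul, ← map_mul]
  congr 2
  funext t
  simp [mul_assoc]

set_option maxHeartbeats 800000 in
/-- Elements normalizing the monomial Sylow subgroup send standard planes to standard planes. -/
theorem smul_E_of_normalizer (h2 : (2 : F) ≠ 0) (hQ : 2 < Nat.card Q) (hW : ∀ x y : Fin n,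
    ∃ π ∈ W, π x = y) {g : SpQ F (Fin n)}
    (hg : g ∈ Subgroup.normalizer ((monoSub Q W : Subgroup (SpQ F (Fin n))) : Set (SpQ F (Fin n))))
    (hneg : (-1 : SLtwo F) ∈ Q) (a : Fin n) :
    ∃ b C, g • E (F := F) a = rmul (E b) C := by
  classical
  obtain ⟨v, hv⟩ : ∃ v : UV F (Fin n), v = g • E a := ⟨_, rfl⟩
  have hfS : refl2 v ∈ monoSub Q W := by
    rw [hv, ← refl2_conj]
    exact (Subgroup.mem_normalizer_iff.1 hg _).1 (phi_mem_monoSub hneg)
  obtain ⟨π, hπ, C, hC, hf⟩ := hfS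
  by_contra hno
  push Not at hno
  have hcol : ∀ t u, (E (F := F) t).1 u + v.1 u * ((-2 : F) • adjugate (v.1 t)) =
      (rmul (E (F := F) (π t)) (C t)).1 u := fun t u => by
    rw [← mono_smul_E, ← hf, smul_val, app_refl2, herm_E_right]; rfl
  have hmove : ∀ t, v.1 t ≠ 0 → π t ≠ t ∧ 2 * (v.1 t).det = 1 ∧
      ∀ u, u ≠ t → u ≠ π t → v.1 u = 0 := by
    intro t ht
    have hzero : ∀ u, u ≠ t → u ≠ π t → v.1 u * adjugate (v.1 t) = 0 := fun u h1 h3 => by
      have h := hcol t u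
      rw [E_val, rmul_E_val, Pi.single_eq_of_ne h1, Pi.single_eq_of_ne h3, zero_add,
        mul_smul_comm] at h
      exact (smul_eq_zero.1 h).resolve_left (neg_ne_zero.2 h2)
    have hright : (v.1 t).det ≠ 0 → ∀ u, v.1 u * adjugate (v.1 t) = 0 → v.1 u = 0 := by
      intro hd u h
      have h' := congrArg (fun M => M * v.1 t) h
      simp only [mul_assoc, adj_mul_self, mul_smul_comm, mul_one, zero_mul] at h'
      exact (smul_eq_zero.1 h').resolve_left hd
    have hπt : π t ≠ t := fun hfix => by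
      rw [hfix] at hzero
      have hd : (v.1 t).det = 1 := by
        have h1 : herm v.1 v.1 * adjugate (v.1 t) = (v.1 t).det • adjugate (v.1 t) := by
          rw [herm, Finset.sum_mul, Finset.sum_eq_single t]
          · rw [adj_mul_self, smul_mul_assoc, one_mul]
          · intro u _ hu; rw [mul_assoc, hzero u hu hu, mul_zero]
          · simp
        rw [v.2, one_mul] at h1
        have h3 : ((1 : F) - (v.1 t).det) • adjugate (v.1 t) = 0 := by
          rw [sub_smul, one_smul, ← h1, sub_self]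
        rcases smul_eq_zero.1 h3 with h4 | h4
        · exact (sub_eq_zero.1 h4).symm
        · exact absurd (by rw [← adj_adj (v.1 t), h4, adj_zero]) ht
      obtain ⟨D, hD⟩ := exists_eq_rmul_E (v := v) (b := t) fun u hu =>
        hright (by rw [hd]; exact one_ne_zero) u (hzero u hu hu)
      exact hno t D (hv.symm.trans hD)
    have hd : 2 * (v.1 t).det = 1 := by
      have h := hcol t t
      rw [E_val, rmul_E_val, Pi.single_eq_same, Pi.single_eq_of_ne (Ne.symm hπt), mul_smul_comm,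
        self_mul_adj, smul_smul] at h
      refine smul_one_injective (F := F) ?_
      rw [one_smul, eq_comm, ← sub_eq_zero, ← h]
      module
    refine ⟨hπt, hd, fun u h1 h3 => hright (fun h => ?_) u (hzero u h1 h3)⟩
    rw [h, mul_zero] at hd
    exact zero_ne_one hd
  obtain ⟨a', ha'⟩ := exists_det_ne_zero v
  have hva' : v.1 a' ≠ 0 := fun h => ha' (by rw [h]; simp)
  set b' := π a' with hb'
  obtain ⟨hab, hda, hsupp⟩ := hmove a' hva'
  have hvb' : v.1 b' ≠ 0 := fun h => by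
    obtain ⟨D, hD⟩ := exists_eq_rmul_E (v := v) (b := a') fun u hu => by
      rcases eq_or_ne u b' with rfl | hub
      · exact h
      · exact hsupp u hu hub
    exact hno a' D (hv.symm.trans hD)
  have hπb : π b' = a' := by
    by_contra h
    exact hva' ((hmove b' hvb').2.2 a' (Ne.symm hab) (Ne.symm h))
  have hdet : ∀ t, v.1 t ≠ 0 → (v.1 t).det ≠ 0 := fun t ht h => by
    have := (hmove t ht).2.1
    rw [h, mul_zero] at this
    exact zero_ne_one this
  -- centralisers of the two involutions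
  set S := monoSub Q W with hS
  let T1 := {ρ : W // (ρ : Equiv.Perm (Fin n)) a' = a' ∨ (ρ : Equiv.Perm (Fin n)) a' = b'}
  let T2 := {t : Fin n // t ≠ b'} → Q
  let Src := {π : W // (π : Equiv.Perm (Fin n)) a = a} × (Fin n → Q)
  let mk : Src → SpQ F (Fin n) := fun p =>
    g * (permQ (p.1.1 : Equiv.Perm (Fin n)) * diagQ (fun t => (p.2 t : SLtwo F))) * g⁻¹
  have hmkS : ∀ p, mk p ∈ S := fun p => (Subgroup.mem_normalizer_iff.1 hg _).1
    ⟨p.1.1, p.1.1.2, _, fun t => (p.2 t).2, rfl⟩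
  have hmkv : ∀ p, ∃ D, mk p • v = rmul v D := fun p => by
    refine ⟨(p.2 a : SLtwo F), ?_⟩
    rw [hv, mul_smul, mul_smul, inv_smul_smul, mono_smul_E, p.1.2, smul_rmul]
  choose ρ hρ D hD hmk using hmkS
  choose K hK using hmkv
  have hval : ∀ p t, (D p t : R2 F) * v.1 t = v.1 (ρ p t) * (K p : R2 F) := fun p t => by
    have h := congrFun (congrArg Subtype.val (hK p)) (ρ p t)
    rw [hmk p, smul_val, app_mul, app_diagQ, app_permQ, rmul_val] at h
    simpa [sc] using h
  have hab' : ∀ p, ρ p a' = a' ∨ ρ p a' = b' := fun p => by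
    have hne : v.1 (ρ p a') ≠ 0 := fun h => by
      have h1 := hval p a'
      rw [h, zero_mul] at h1
      exact hva' (eq_zero_of_mul_left (det_ne_zero _) h1)
    by_contra hc
    push Not at hc
    exact hne (hsupp _ hc.1 hc.2)
  let Ψ : Src → T1 × T2 := fun p =>
    (⟨⟨ρ p, hρ p⟩, hab' p⟩, fun t => ⟨D p t.1, hD p t.1⟩)
  have hΨ : Function.Injective Ψ := by
    intro p p' h
    have hρ' : ρ p = ρ p' := congrArg (fun x : T1 × T2 => (x.1.1 : Equiv.Perm (Fin n))) h
    have hD' : ∀ t, t ≠ b' → D p t = D p' t := fun t ht =>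
      congrArg (fun x : T1 × T2 => (x.2 ⟨t, ht⟩ : SLtwo F)) h
    have hK' : (K p : R2 F) = (K p' : R2 F) := by
      have h1 := hval p a'
      rw [hD' a' (Ne.symm hab), hval p' a', ← hρ'] at h1
      have hne : v.1 (ρ p a') ≠ 0 := by rcases hab' p with e | e <;> rw [e] <;> assumption
      refine (sub_eq_zero.1 (eq_zero_of_mul_left (hdet _ hne) ?_)).symm
      rw [mul_sub, h1, sub_self]
    have hDb : D p b' = D p' b' := by
      have h1 : ((D p b' : R2 F) - (D p' b' : R2 F)) * v.1 b' = 0 := by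
        rw [sub_mul, hval, hval, hρ', hK', sub_self]
      have h3 := congrArg (fun M => M * adjugate (v.1 b')) h1
      simp only [mul_assoc, self_mul_adj, mul_smul_comm, mul_one, zero_mul] at h3
      exact Subtype.ext (sub_eq_zero.1 ((smul_eq_zero.1 h3).resolve_left (hdet b' hvb')))
    have hDD : D p = D p' := funext fun t => by
      rcases eq_or_ne t b' with rfl | ht
      · exact hDb
      · exact hD' t ht
    have he : mk p = mk p' := by rw [hmk, hmk, hρ', hDD]
    obtain ⟨e1, e2⟩ := mono_inj (mul_left_cancel (mul_right_cancel he))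
    exact Prod.ext (Subtype.ext (Subtype.ext e1)) (funext fun t => Subtype.ext (congrFun e2 t))
  -- the bound on the permutations
  obtain ⟨σ, hσ, hσa⟩ := hW a' b'
  obtain ⟨τ, hτ, hτa⟩ := hW a' a
  let Wa := {π : W // (π : Equiv.Perm (Fin n)) a = a}
  let χ : T1 → Bool × Wa := fun r =>
    if h : (r.1 : Equiv.Perm (Fin n)) a' = a' then
      (true, ⟨⟨τ * r.1 * τ⁻¹, mul_mem (mul_mem hτ r.1.2) (inv_mem hτ)⟩, by
        show τ ((r.1 : Equiv.Perm (Fin n)) (τ⁻¹ a)) = a
        rw [← hτa, show τ⁻¹ (τ a') = a' by simp, h]⟩)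
    else
      (false, ⟨⟨τ * (σ⁻¹ * r.1) * τ⁻¹, mul_mem (mul_mem hτ (mul_mem (inv_mem hσ) r.1.2)) (inv_mem hτ)⟩, by
        show τ (σ⁻¹ ((r.1 : Equiv.Perm (Fin n)) (τ⁻¹ a))) = a
        rw [← hτa, show τ⁻¹ (τ a') = a' by simp, r.2.resolve_left h, ← hσa,
          show σ⁻¹ (σ a') = a' by simp]⟩)
  have hχ : Function.Injective χ := by
    intro r r' h
    apply Subtype.ext
    apply Subtype.ext
    simp only [χ] at h
    split_ifs at h with e1 e2 e2
    · exact mul_left_cancel (mul_right_cancel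
        (congrArg (fun x : Bool × Wa => (x.2.1 : Equiv.Perm (Fin n))) h))
    · exact absurd (congrArg Prod.fst h) (by simp)
    · exact absurd (congrArg Prod.fst h) (by simp)
    · exact mul_left_cancel (mul_left_cancel (mul_right_cancel
        (congrArg (fun x : Bool × Wa => (x.2.1 : Equiv.Perm (Fin n))) h)))
  have hc1 := Nat.card_le_card_of_injective χ hχ
  rw [Nat.card_prod, Nat.card_eq_fintype_card (α := Bool), Fintype.card_bool] at hc1
  have hc2 := Nat.card_le_card_of_injective Ψ hΨ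
  rw [Nat.card_prod, Nat.card_prod, Nat.card_fun, Nat.card_fun, Nat.card_fin] at hc2
  have hcard : Nat.card {t : Fin n // t ≠ b'} = n - 1 := by
    rw [Nat.card_eq_fintype_card]; simp [Fintype.card_subtype_compl]
  rw [hcard] at hc2
  have hn : 1 ≤ n := Fin.pos a
  have hWa : 0 < Nat.card Wa := by
    haveI : Nonempty Wa := ⟨⟨1, rfl⟩⟩
    exact Nat.card_pos
  have h3 : Nat.card Wa * Nat.card Q ^ n ≤ Nat.card Wa * (2 * Nat.card Q ^ (n - 1)) := by
    refine hc2.trans ((Nat.mul_le_mul_right _ hc1).trans ?_)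
    rw [mul_comm 2 (Nat.card Wa), mul_assoc]
  have h4 := Nat.le_of_mul_le_mul_left h3 hWa
  rw [show Nat.card Q ^ n = Nat.card Q * Nat.card Q ^ (n - 1) by
    rw [← pow_succ']; congr 1; omega] at h4
  have h5 := Nat.le_of_mul_le_mul_right h4 (pow_pos Nat.card_pos _)
  omega

/-- The normalizer of the monomial Sylow subgroup. -/
theorem exists_of_normalizer {k : ℕ} (hn : n = 2 ^ k) (h2 : (2 : F) ≠ 0) (hQ : 2 < Nat.card Q)
    (hneg : (-1 : SLtwo F) ∈ Q) (W : Sylow 2 (Equiv.Perm (Fin n))) {g : SpQ F (Fin n)}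
    (hg : g ∈ Subgroup.normalizer
      ((monoSub Q (W : Subgroup (Equiv.Perm (Fin n))) : Subgroup (SpQ F (Fin n))) :
        Set (SpQ F (Fin n)))) :
    ∃ C ∈ Subgroup.normalizer (Q : Set (SLtwo F)),
      g * (dC C)⁻¹ ∈ monoSub Q (W : Subgroup (Equiv.Perm (Fin n))) := by
  classical
  have hW := sylow_perm_transitive hn W
  choose σ C hσC using fun a => smul_E_of_normalizer h2 hQ hW hg hneg a
  have hinj : Function.Injective σ := by
    intro a b h
    have e : g • E (F := F) a = g • rmul (E b) ((C b)⁻¹ * C a) := by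
      rw [smul_rmul, hσC, hσC, h, rmul_rmul, mul_inv_cancel_left]
    have e2 := smul_left_cancel g e
    rw [← rmul_one (E a)] at e2
    exact (rmul_E_inj e2).1
  obtain ⟨s, hs⟩ : ∃ s : Equiv.Perm (Fin n), ∀ a, s a = σ a :=
    ⟨Equiv.ofBijective σ (Finite.injective_iff_bijective.1 hinj), fun a => rfl⟩
  have hgm : g = permQ s * diagQ C := eq_mono fun t => by rw [hs, hσC]
  have hCn : ∀ t, C t ∈ Subgroup.normalizer (Q : Set (SLtwo F)) := fun t => by
    refine mem_normalizer_of_forall fun q hq => ?_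
    refine mem_of_phi_mem (t := σ t) (W := (W : Subgroup (Equiv.Perm (Fin n)))) ?_
    rw [← phi_rmul, ← hσC, ← phi_conj]
    exact (Subgroup.mem_normalizer_iff.1 hg _).1 (phi_mem_monoSub hq)
  have hconj : ∀ π ∈ (W : Subgroup (Equiv.Perm (Fin n))),
      s * π * s⁻¹ ∈ (W : Subgroup (Equiv.Perm (Fin n))) ∧ ∀ t, C (π t) * (C t)⁻¹ ∈ Q := by
    intro π hπ
    have h := (Subgroup.mem_normalizer_iff.1 hg _).1 (perm_mem_monoSub (Q := Q) hπ)
    have e : g * permQ π * g⁻¹ = permQ (s * π * s⁻¹) *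
        diagQ (fun u => C (π (s⁻¹ u)) * (C (s⁻¹ u))⁻¹) := by
      rw [mul_inv_eq_iff_eq_mul, hgm, mul_assoc, diag_comm_perm, ← mul_assoc, ← map_mul, mono_mul]
      congr 1
      · congr 1; group
      · congr 1; funext t; simp
    rw [e] at h
    obtain ⟨h1, h2'⟩ := mem_of_mono_mem h
    refine ⟨h1, fun t => ?_⟩
    have h3 := h2' (s t)
    simpa using h3
  have hsW : s ∈ (W : Subgroup (Equiv.Perm (Fin n))) :=
    sylow_perm_self_normalizing W (mem_normalizer_of_forall fun π hπ => (hconj π hπ).1)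
  have t0 : Fin n := ⟨0, by rw [hn]; exact Nat.two_pow_pos k⟩
  refine ⟨C t0, hCn t0, s, hsW, fun t => C t * (C t0)⁻¹, fun t => ?_, ?_⟩
  · obtain ⟨π, hπ, hπt⟩ := hW t0 t
    have := (hconj π hπ).2 t0
    rwa [hπt] at this
  · rw [hgm, dC_apply, ← map_inv, mul_assoc, ← map_mul]
    rfl

end Cfsg.Agent.Lib.PronormalSp1
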