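import Mathlib
import Cfsg.Agent.Lib.PronormalSp1.Main
import Cfsg.Agent.Lib.PronormalSp1.Sylow

/-!
Overgroups of the monomial Sylow subgroup against its normalizer.
-/

set_option autoImplicit false

namespace Cfsg.Agent.Lib.PronormalSp1

open Matrix Cfsg Cfsg.Agent.Lib Cfsg.Agent.Lib.SL2 Cfsg.Agent.Lib.PronormalOddIndex
open Cfsg.Agent.Lib.ConjFunctor

variable {F : Type} [Field F] [Fintype F]

/-- No fusion inside `⟨H, C H C⁻¹⟩` forces `H ≤ Q`. -/
theorem le_of_no_fusion (hodd : Odd (Fintype.card F)) (S : Sylow 2 (SLtwo F))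
    (D : QCase (S : Subgroup (SLtwo F))) {H : Subgroup (SLtwo F)}
    (hH : (S : Subgroup (SLtwo F)) ≤ H) {C : SLtwo F}
    (hC : C ∈ Subgroup.normalizer ((S : Subgroup (SLtwo F)) : Set (SLtwo F)))
    (hCQ : C ∉ (S : Subgroup (SLtwo F)))
    (hJ : ∀ n ∈ H ⊔ cj C H, n ∈ Subgroup.normalizer ((S : Subgroup (SLtwo F)) : Set (SLtwo F)) →
      n ∈ (S : Subgroup (SLtwo F))) : H ≤ (S : Subgroup (SLtwo F)) := by
  classical
  haveI : Fact (Nat.Prime 2) := ⟨Nat.prime_two⟩
  have h2 : (2 : F) ≠ 0 := two_ne_zero_iff_odd.2 hodd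
  set P : Sylow 2 (PSLtwo F) := S.mapSurjective proj_surjective with hP
  have hPc : (P : Subgroup (PSLtwo F)) = (S : Subgroup (SLtwo F)).map proj :=
    Sylow.coe_mapSurjective _ _
  have hc2 : Subgroup.center (SLtwo F) ≤ (S : Subgroup (SLtwo F)) :=
    two_le_sylow_of_normal S (IsPGroup.of_card (n := 1) (by rw [card_center_odd h2, pow_one]))
  have hker : (proj (F := F)).ker ≤ (S : Subgroup (SLtwo F)) := by
    rw [QuotientGroup.ker_mk']; exact hc2
  have h4 : Nat.card (P : Subgroup (PSLtwo F)) = 4 := by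
    have h8 := D.card
    have := card_map_proj h2 hc2
    rw [h8, ← hPc] at this
    omega
  have hinv : ∀ t ∈ (P : Subgroup (PSLtwo F)), t ≠ 1 → orderOf t = 2 := by
    intro t ht ht1
    rw [hPc] at ht
    obtain ⟨s, hs, rfl⟩ := ht
    refine orderOf_eq_prime ?_ ht1
    rcases Classical.em (s ^ 4 = 1) with h' | h'
    · rw [← map_pow]
      exact proj_eq_one_iff.2 (mem_center_of_mul_self h2 (by rw [← pow_add]; exact h'))
    · exfalso
      apply h'
      obtain ⟨-, hN | ⟨-, ⟨e⟩⟩⟩ := sl2_facts hodd S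
      · exact absurd (hN ▸ hC) hCQ
      · have := q8_pow_four (e ⟨s, hs⟩)
        rw [← map_pow, ← map_one e, e.injective.eq_iff] at this
        exact congrArg Subtype.val this
  have hcomm : ∀ t ∈ (P : Subgroup (PSLtwo F)), ∀ t' ∈ (P : Subgroup (PSLtwo F)),
      t * t' = t' * t := by
    intro t ht t' ht'
    have key : ∀ x ∈ (P : Subgroup (PSLtwo F)), x⁻¹ = x := fun x hx => by
      rcases eq_or_ne x 1 with rfl | hx1
      · exact inv_one
      · have := pow_orderOf_eq_one x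
        rw [hinv x hx hx1, sq] at this
        exact inv_eq_of_mul_eq_one_right this
    rw [← key _ (mul_mem ht ht'), _root_.mul_inv_rev, key _ ht, key _ ht']
  have hij := D.ij_ne
  have ht₁ : proj D.i ∈ (P : Subgroup (PSLtwo F)) := hPc ▸ Subgroup.mem_map_of_mem _ D.hi
  have ht₂ : proj D.j ∈ (P : Subgroup (PSLtwo F)) := hPc ▸ Subgroup.mem_map_of_mem _ D.hj
  have h11 : proj D.i ≠ 1 := fun e =>
    hij (Subgroup.mem_center_iff.1 (proj_eq_one_iff.1 e) D.j).symm
  have h21 : proj D.j ≠ 1 := fun e =>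
    hij (Subgroup.mem_center_iff.1 (proj_eq_one_iff.1 e) D.i)
  have h12 : proj D.i ≠ proj D.j := fun e => hij (by
    rcases proj_eq_proj_iff.1 e with h | h <;> rw [h] <;> simp)
  have hmemP : ∀ x : SLtwo F, proj x ∈ (P : Subgroup (PSLtwo F)) → x ∈ (S : Subgroup (SLtwo F)) :=
    fun x hx => by
      rw [hPc, ← Subgroup.mem_comap, Subgroup.comap_map_eq_self hker] at hx
      exact hx
  have hnorm : ∀ x : SLtwo F, proj x ∈ Subgroup.normalizer ((P : Subgroup (PSLtwo F)) : Set (PSLtwo F)) →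
      x ∈ Subgroup.normalizer ((S : Subgroup (SLtwo F)) : Set (SLtwo F)) := fun x hx => by
    refine mem_normalizer_of_forall fun s hs => hmemP _ ?_
    rw [map_mul, map_mul, map_inv]
    exact (Subgroup.mem_normalizer_iff.1 hx _).1 (hPc ▸ Subgroup.mem_map_of_mem _ hs)
  have hgN : proj C ∈ Subgroup.normalizer ((P : Subgroup (PSLtwo F)) : Set (PSLtwo F)) := by
    refine mem_normalizer_of_forall fun t ht => ?_
    rw [hPc] at ht ⊢
    obtain ⟨s, hs, rfl⟩ := ht
    exact ⟨C * s * C⁻¹, (Subgroup.mem_normalizer_iff.1 hC s).1 hs, by rw [map_mul, map_mul, map_inv]⟩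
  have hmove : ∀ t ∈ (P : Subgroup (PSLtwo F)), t ≠ 1 → proj C * t * (proj C)⁻¹ ≠ t :=
    fun t ht ht1 e => hCQ (hmemP C (mem_of_fixes hodd P h4 hinv hgN ht ht1 e))
  have hcj : (H ⊔ cj C H).map proj = H.map proj ⊔ cj (proj C) (H.map proj) := by
    rw [Subgroup.map_sup]
    congr 1
    ext x
    constructor
    · rintro ⟨_, ⟨h, hh, rfl⟩, rfl⟩
      exact ⟨proj h, ⟨h, hh, rfl⟩, by simp⟩
    · rintro ⟨_, ⟨h, hh, rfl⟩, rfl⟩
      exact ⟨C * h * C⁻¹, ⟨h, hh, rfl⟩, by simp⟩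
  have hKP := le_sylow_of_no_fusion hodd P hinv hcomm ht₁ ht₂ h11 h21 h12 hgN hmove
    (K := H.map proj) (by rw [hPc]; exact Subgroup.map_mono hH) (fun n hn hnN => by
      rw [← hcj] at hn
      obtain ⟨m, hm, rfl⟩ := hn
      exact hPc ▸ Subgroup.mem_map_of_mem _ (hJ m hm (hnorm m hnN)))
  intro h hh
  exact hmemP h (hKP ⟨h, hh, rfl⟩)

variable {n : ℕ}

theorem diag_pow_conj {Q : Subgroup (SLtwo F)} (D : QCase Q) (π : Equiv.Perm (Fin n))
    (c : Fin n → ℕ) : (permQ π)⁻¹ * diagQ (fun t => D.w ^ c t) * permQ π =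
      diagQ (fun t => D.w ^ c (π t)) := by
  rw [mul_assoc, diag_comm_perm, inv_mul_cancel_left]

theorem sum_mem_of_mem {Q : Subgroup (SLtwo F)} (D : QCase Q) {X : Subgroup (SpQ F (Fin n))}
    {α : Type} (s : Finset α) (c : α → Fin n → ℕ)
    (h : ∀ x ∈ s, diagQ (fun t => D.w ^ c x t) ∈ X) :
    diagQ (fun t => D.w ^ ∑ x ∈ s, c x t) ∈ X := by
  classical
  induction s using Finset.induction with
  | empty => simp only [Finset.sum_empty, pow_zero]; rw [← Pi.one_def, map_one]; exact X.one_mem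
  | insert a s ha ih =>
    have e : (fun t => D.w ^ ∑ x ∈ insert a s, c x t) =
        (fun t => D.w ^ c a t) * fun t => D.w ^ ∑ x ∈ s, c x t := by
      funext t; rw [Finset.sum_insert ha, pow_add]; rfl
    rw [e, map_mul]
    exact X.mul_mem (h a (Finset.mem_insert_self a s))
      (ih fun x hx => h x (Finset.mem_insert_of_mem hx))

/-- An element of the normalizer lies in `⟨K, gKg⁻¹⟩` or normalizes `K`. -/
theorem mem_or_normalizes (hodd : Odd (Fintype.card F)) {k : ℕ} (hn : n = 2 ^ k)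
    (P : Sylow 2 (SLtwo F)) (W : Sylow 2 (Equiv.Perm (Fin n))) {K : Subgroup (SpQ F (Fin n))}
    (hK : monoSub (P : Subgroup (SLtwo F)) (W : Subgroup (Equiv.Perm (Fin n))) ≤ K)
    {g : SpQ F (Fin n)} (hg : g ∈ Subgroup.normalizer
      ((monoSub (P : Subgroup (SLtwo F)) (W : Subgroup (Equiv.Perm (Fin n))) :
        Subgroup (SpQ F (Fin n))) : Set (SpQ F (Fin n)))) :
    g ∈ K ⊔ cj g K ∨ cj g K = K := by
  classical
  haveI : Fact (Nat.Prime 2) := ⟨Nat.prime_two⟩
  have h2 : (2 : F) ≠ 0 := two_ne_zero_iff_odd.2 hodd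
  have hneg : (-1 : SLtwo F) ∈ (P : Subgroup (SLtwo F)) := by
    refine two_element_mem P (k := 1) (mem_normalizer_of_forall fun x hx => by simpa using hx) ?_
    simp
  have hQ : 2 < Nat.card (P : Subgroup (SLtwo F)) := by
    have := (card_sylow_SLtwo hodd P).2; omega
  obtain ⟨C, hC, hgC⟩ := exists_of_normalizer hn h2 hQ hneg W hg
  set u : SpQ F (Fin n) := dC C with hu
  have hnS := dC_normalizer (W := (W : Subgroup (Equiv.Perm (Fin n)))) (n := n) hC
  -- move the monomial part to the right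
  obtain ⟨s, hs, rfl⟩ : ∃ s ∈ monoSub (P : Subgroup (SLtwo F)) (W : Subgroup (Equiv.Perm (Fin n))),
      g = u * s := by
    refine ⟨u⁻¹ * (g * u⁻¹) * u, ?_, by group⟩
    have := (Subgroup.mem_normalizer_iff.1 (inv_mem hnS) _).1 hgC
    rwa [inv_inv] at this
  have hcjs : cj (u * s) K = cj u K := by
    rw [← cj_cj, mem_normalizer_iff_cj.1 (Subgroup.le_normalizer (hK hs))]
  rw [hcjs]
  set X := K ⊔ cj u K with hX
  have hSX : monoSub (P : Subgroup (SLtwo F)) (W : Subgroup (Equiv.Perm (Fin n))) ≤ X :=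
    hK.trans le_sup_left
  by_cases huX : u ∈ X
  · exact Or.inl (X.mul_mem huX (hSX hs))
  refine Or.inr ?_
  have hCQ : C ∉ (P : Subgroup (SLtwo F)) := fun h => huX (hSX (diag_mem_monoSub fun _ => h))
  obtain hN | ⟨⟨D⟩⟩ := qcase_or hodd P
  · exact absurd (hN ▸ hC) hCQ
  obtain ⟨c, hc⟩ := D.exists_pow C hC
  have hc3 : ¬ 3 ∣ c := fun h => hCQ (by
    rw [show C = C * (D.w ^ c)⁻¹ * D.w ^ c by group]
    exact mul_mem hc (D.w_pow_mem h))
  -- no bad diagonal elements
  have hnoX : ∀ e : Fin n → ℕ, diagQ (fun t => D.w ^ e t) ∈ X → 3 ∣ ∑ t, e t := by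
    intro e he
    by_contra h3
    apply huX
    have t0 : Fin n := ⟨0, by rw [hn]; exact Nat.two_pow_pos k⟩
    set M : Fin n → ℕ := fun t => ∑ π : (W : Subgroup (Equiv.Perm (Fin n))),
      e ((π : Equiv.Perm (Fin n)) t) with hM
    have hMX : diagQ (fun t => D.w ^ M t) ∈ X := by
      refine sum_mem_of_mem D _ (fun (π : (W : Subgroup (Equiv.Perm (Fin n)))) t =>
        e ((π : Equiv.Perm (Fin n)) t)) fun π _ => ?_
      rw [← diag_pow_conj D (π : Equiv.Perm (Fin n)) e]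
      exact X.mul_mem (X.mul_mem (X.inv_mem (hSX (perm_mem_monoSub π.2))) he)
        (hSX (perm_mem_monoSub π.2))
    have hconst : ∀ t, M t = M t0 := by
      intro t
      obtain ⟨σ, hσ, hσt⟩ := sylow_perm_transitive hn W t0 t
      simp only [hM]
      rw [← hσt]
      exact Fintype.sum_equiv (Equiv.mulRight (⟨σ, hσ⟩ : (W : Subgroup (Equiv.Perm (Fin n)))))
        _ _ fun π => rfl
    have hsum : n * M t0 = Nat.card (W : Subgroup (Equiv.Perm (Fin n))) * ∑ t, e t := by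
      have h1 : ∑ t, M t = n * M t0 := by
        rw [Finset.sum_congr rfl fun t _ => hconst t, Finset.sum_const, Finset.card_univ,
          Fintype.card_fin, smul_eq_mul]
      rw [← h1, hM, Finset.sum_comm, Nat.card_eq_fintype_card]
      refine (Finset.sum_congr rfl fun (π : (W : Subgroup (Equiv.Perm (Fin n)))) _ => Equiv.sum_comp (π : Equiv.Perm (Fin n)) e).trans ?_
      rw [Finset.sum_const, Finset.card_univ, smul_eq_mul]
    have hM3 : ¬ 3 ∣ M t0 := by
      intro h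
      apply h3
      have h4 : 3 ∣ Nat.card (W : Subgroup (Equiv.Perm (Fin n))) * ∑ t, e t :=
        hsum ▸ Dvd.dvd.mul_left h n
      refine (Nat.prime_three.dvd_mul.1 h4).resolve_left fun h5 => ?_
      rw [W.card_eq_multiplicity] at h5
      have := Nat.prime_three.dvd_of_dvd_pow h5
      omega
    set m : ℕ := if M t0 % 3 = c % 3 then 1 else 2 with hm
    have hmod : (M t0 * m) % 3 = c % 3 := by
      rw [hm]; split_ifs with h
      · rwa [mul_one]
      · omega
    have hmem : D.w ^ (M t0 * m) * (D.w ^ c)⁻¹ ∈ (P : Subgroup (SLtwo F)) := by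
      have e' : D.w ^ c = D.w ^ (3 * (c / 3)) * D.w ^ (c % 3) := by
        rw [← pow_add, Nat.div_add_mod]
      rw [← Nat.div_add_mod (M t0 * m) 3, hmod, pow_add, e', _root_.mul_inv_rev, ← mul_assoc,
        mul_inv_cancel_right]
      exact mul_mem (D.w_pow_mem (dvd_mul_right _ _)) (inv_mem (D.w_pow_mem (dvd_mul_right _ _)))
    have hw : dC (D.w ^ (M t0 * m)) ∈ X := by
      rw [pow_mul, map_pow]
      refine X.pow_mem ?_ m
      rw [dC_apply]
      convert hMX using 2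
      funext t; rw [hconst t]
    have e1 : u = dC ((C * (D.w ^ c)⁻¹) * (D.w ^ (M t0 * m) * (D.w ^ c)⁻¹)⁻¹) *
        dC (D.w ^ (M t0 * m)) := by
      rw [hu, ← map_mul]; congr 1; group
    rw [e1]
    exact X.mul_mem (hSX (diag_mem_monoSub fun _ => mul_mem hc (inv_mem hmem))) hw
  have hHK : ∀ t A, Phi (E t) A ∈ K → A ∈ (P : Subgroup (SLtwo F)) := by
    intro t
    refine le_of_no_fusion hodd P D (H := K.comap (Phi (E t)))
      (fun q hq => hK (phi_mem_monoSub hq)) hC hCQ fun x hx hxN => ?_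
    have hle : K.comap (Phi (E t)) ⊔ cj C (K.comap (Phi (E t))) ≤ X.comap (Phi (E t)) := by
      refine sup_le (fun A hA => (le_sup_left : K ≤ X) hA) ?_
      rintro _ ⟨A, hA, rfl⟩
      refine (le_sup_right : cj u K ≤ X) ⟨Phi (E t) A, hA, ?_⟩
      show u * Phi (E t) A * u⁻¹ = Phi (E t) (C * A * C⁻¹)
      rw [phi_conj, hu, dC_smul_E, phi_rmul]
    obtain ⟨d, hd⟩ := D.exists_pow x hxN
    have hmemX : Phi (E t) (D.w ^ d) ∈ X := by
      rw [show D.w ^ d = (x * (D.w ^ d)⁻¹)⁻¹ * x by group, map_mul, map_inv]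
      exact X.mul_mem (X.inv_mem (hSX (phi_mem_monoSub hd))) (hle hx)
    have h3 := hnoX (Pi.single t d) (by
      rw [← diagQ_mulSingle] at hmemX
      convert hmemX using 2
      funext i
      rcases eq_or_ne i t with rfl | h
      · simp
      · simp [h])
    rw [show x = x * (D.w ^ d)⁻¹ * D.w ^ d by group]
    exact mul_mem hd (D.w_pow_mem (by simpa using h3))
  have hHyp : Hyp D K :=
    ⟨fun t q hq => hK (phi_mem_monoSub hq), hHK,
      fun e he => hnoX e ((le_sup_left : K ≤ X) he)⟩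
  refine Subgroup.eq_of_le_of_card_ge (cj_le_iff.2 fun x hx => ?_) (by rw [card_cj])
  choose σ B hB using fun t =>
    exists_eq_rmul_of_qp h2 D hHyp (x • E t) ((hHyp.qp t).smul hx)
  have hBn : ∀ t, B t ∈ Subgroup.normalizer ((P : Subgroup (SLtwo F)) : Set (SLtwo F)) := fun t => by
    refine mem_normalizer_of_forall fun q hq => hHK (σ t) _ ?_
    rw [← phi_rmul, ← hB, ← phi_conj]
    exact K.mul_mem (K.mul_mem hx (hK (phi_mem_monoSub hq))) (K.inv_mem hx)
  have e : u * x * u⁻¹ = x * diagQ (fun t => (B t)⁻¹ * C * B t * C⁻¹) := by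
    refine ext_E fun t => ?_
    have hui : u⁻¹ • E (F := F) t = rmul (E t) C⁻¹ := by
      rw [inv_smul_eq_iff, smul_rmul, hu, dC_smul_E, rmul_rmul, mul_inv_cancel, rmul_one]
    have hd : diagQ (fun t => (B t)⁻¹ * C * B t * C⁻¹) • E (F := F) t =
        rmul (E t) ((B t)⁻¹ * C * B t * C⁻¹) := by
      have h := mono_smul_E (1 : Equiv.Perm (Fin n)) (fun t => (B t)⁻¹ * C * B t * C⁻¹) t
      rwa [map_one, one_mul] at h
    rw [mul_smul, mul_smul, mul_smul, hui, hd, smul_rmul, smul_rmul, smul_rmul, hB, smul_rmul, hu,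
      dC_smul_E, rmul_rmul, rmul_rmul, rmul_rmul]
    congr 1
    group
  rw [e]
  refine K.mul_mem hx (hK (diag_mem_monoSub fun t => ?_))
  have := D.comm_mem (inv_mem (hBn t)) hC
  rwa [inv_inv] at this

/-- The normalizer is abelian modulo the monomial Sylow subgroup. -/
theorem commutator_mem (hodd : Odd (Fintype.card F)) {k : ℕ} (hn : n = 2 ^ k)
    (P : Sylow 2 (SLtwo F)) (W : Sylow 2 (Equiv.Perm (Fin n))) {g h : SpQ F (Fin n)}
    (hg : g ∈ Subgroup.normalizer
      ((monoSub (P : Subgroup (SLtwo F)) (W : Subgroup (Equiv.Perm (Fin n))) :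
        Subgroup (SpQ F (Fin n))) : Set (SpQ F (Fin n))))
    (hh : h ∈ Subgroup.normalizer
      ((monoSub (P : Subgroup (SLtwo F)) (W : Subgroup (Equiv.Perm (Fin n))) :
        Subgroup (SpQ F (Fin n))) : Set (SpQ F (Fin n)))) :
    g * h * g⁻¹ * h⁻¹ ∈ monoSub (P : Subgroup (SLtwo F)) (W : Subgroup (Equiv.Perm (Fin n))) := by
  classical
  haveI : Fact (Nat.Prime 2) := ⟨Nat.prime_two⟩
  have h2 : (2 : F) ≠ 0 := two_ne_zero_iff_odd.2 hodd
  have hneg : (-1 : SLtwo F) ∈ (P : Subgroup (SLtwo F)) := by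
    refine two_element_mem P (k := 1) (mem_normalizer_of_forall fun x hx => by simpa using hx) ?_
    simp
  have hQ : 2 < Nat.card (P : Subgroup (SLtwo F)) := by
    have := (card_sylow_SLtwo hodd P).2; omega
  obtain ⟨C, hC, hgC⟩ := exists_of_normalizer hn h2 hQ hneg W hg
  obtain ⟨C', hC', hhC⟩ := exists_of_normalizer hn h2 hQ hneg W hh
  set S := monoSub (P : Subgroup (SLtwo F)) (W : Subgroup (Equiv.Perm (Fin n))) with hS
  set N := Subgroup.normalizer (S : Set (SpQ F (Fin n))) with hN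
  haveI : (S.subgroupOf N).Normal := Subgroup.normal_in_normalizer
  let π := QuotientGroup.mk' (S.subgroupOf N)
  have hcomm : C * C' * C⁻¹ * C'⁻¹ ∈ (P : Subgroup (SLtwo F)) := by
    obtain hN | ⟨⟨D⟩⟩ := qcase_or hodd P
    · rw [hN] at hC hC'
      exact mul_mem (mul_mem (mul_mem hC hC') (inv_mem hC)) (inv_mem hC')
    · exact D.comm_mem hC hC'
  let u : N := ⟨dC C, dC_normalizer hC⟩
  let v : N := ⟨dC C', dC_normalizer hC'⟩
  have hmk : ∀ x y : N, (x : SpQ F (Fin n)) * (y : SpQ F (Fin n))⁻¹ ∈ S → π x = π y := fun x y h => by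
    refine (QuotientGroup.eq_iff_div_mem).2 ?_
    rw [Subgroup.mem_subgroupOf, div_eq_mul_inv]
    exact h
  have hgu : π ⟨g, hg⟩ = π u := hmk _ _ hgC
  have hhv : π ⟨h, hh⟩ = π v := hmk _ _ hhC
  have huv : π u * π v * (π u)⁻¹ * (π v)⁻¹ = 1 := by
    rw [← map_inv, ← map_inv, ← map_mul, ← map_mul, ← map_mul]
    refine (QuotientGroup.eq_one_iff _).2 ?_
    rw [Subgroup.mem_subgroupOf]
    show dC C * dC C' * (dC C)⁻¹ * (dC C')⁻¹ ∈ S
    rw [← map_inv, ← map_inv, ← map_mul, ← map_mul, ← map_mul]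
    exact diag_mem_monoSub fun _ => hcomm
  rw [← hgu, ← hhv, ← map_inv, ← map_inv, ← map_mul, ← map_mul, ← map_mul] at huv
  have h' := (QuotientGroup.eq_one_iff _).1 huv
  rw [Subgroup.mem_subgroupOf] at h'
  exact h'

end Cfsg.Agent.Lib.PronormalSp1
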