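import Mathlib
import Cfsg.Agent.Lib.PronormalOddIndex.Two
import Cfsg.Agent.Lib.ConjFunctor.Basic

/-!
Overgroups of a product of Sylow 2-subgroups.
-/

set_option autoImplicit false

namespace Cfsg.Agent.Lib.PronormalSp1

open Cfsg Cfsg.Agent.Lib.ConjFunctor Cfsg.Agent.Lib.PronormalOddIndex

variable {α : Type} [Fintype α] [DecidableEq α] {G : α → Type} [∀ i, Group (G i)]

/-- An element is in a subgroup if all its coordinates are. -/
theorem mem_of_singles {K : Subgroup (∀ i, G i)} {x : ∀ i, G i}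
    (h : ∀ i, Pi.mulSingle i (x i) ∈ K) : x ∈ K :=
  Subgroup.pi_mem_of_mulSingle_mem x h

theorem conj_single (k : ∀ i, G i) (i : α) (a : G i) :
    k * Pi.mulSingle i a * k⁻¹ = Pi.mulSingle i (k i * a * (k i)⁻¹) := by
  funext j
  rcases eq_or_ne j i with rfl | h
  · simp
  · simp [Pi.mulSingle_eq_of_ne h]

variable [∀ i, Finite (G i)]

/-- The product of Sylow subgroups. -/
theorem exists_pi_sylow (S : ∀ i, Sylow 2 (G i)) :
    ∃ P : Sylow 2 (∀ i, G i), ∀ x, x ∈ (P : Subgroup (∀ i, G i)) ↔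
      ∀ i, x i ∈ (S i : Subgroup (G i)) := by
  classical
  haveI : Fact (Nat.Prime 2) := ⟨Nat.prime_two⟩
  set H : Subgroup (∀ i, G i) := Subgroup.pi Set.univ fun i => (S i : Subgroup (G i)) with hH
  have hmem : ∀ x, x ∈ H ↔ ∀ i, x i ∈ (S i : Subgroup (G i)) := fun x => by
    simp [hH, Subgroup.mem_pi]
  let e : H ≃ ∀ i, (S i : Subgroup (G i)) :=
    { toFun := fun x i => ⟨x.1 i, (hmem _).1 x.2 i⟩
      invFun := fun y => ⟨fun i => (y i).1, (hmem _).2 fun i => (y i).2⟩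
      left_inv := fun x => rfl
      right_inv := fun y => rfl }
  have hcard : Nat.card H = 2 ^ (Nat.card (∀ i, G i)).factorization 2 := by
    rw [Nat.card_congr e, Nat.card_pi, Nat.card_pi,
      Nat.factorization_prod fun i _ => Nat.card_pos.ne', Finsupp.finsetSum_apply,
      ← Finset.prod_pow_eq_pow_sum]
    exact Finset.prod_congr rfl fun i _ => (S i).card_eq_multiplicity
  exact ⟨Sylow.ofCard H hcard, hmem⟩

/-- Overgroups of a product of Sylow subgroups with the factor property are pronormal. -/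
theorem pronormal_pi (S : ∀ i, Sylow 2 (G i))
    (h1 : ∀ i, ∀ K : Subgroup (G i), (S i : Subgroup (G i)) ≤ K →
      ∀ g ∈ Subgroup.normalizer ((S i : Subgroup (G i)) : Set (G i)),
        g ∈ K ⊔ cj g K ∨ cj g K = K)
    (h2 : ∀ i, ∀ g ∈ Subgroup.normalizer ((S i : Subgroup (G i)) : Set (G i)),
      ∀ h ∈ Subgroup.normalizer ((S i : Subgroup (G i)) : Set (G i)),
        g * h * g⁻¹ * h⁻¹ ∈ (S i : Subgroup (G i)))
    (P : Sylow 2 (∀ i, G i))
    (hP : ∀ x, x ∈ (P : Subgroup (∀ i, G i)) ↔ ∀ i, x i ∈ (S i : Subgroup (G i)))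
    (K : Subgroup (∀ i, G i)) (hK : (P : Subgroup (∀ i, G i)) ≤ K) : IsPronormal K := by
  classical
  haveI : Fact (Nat.Prime 2) := ⟨Nat.prime_two⟩
  set Ki : ∀ i, Subgroup (G i) := fun i => K.comap (MonoidHom.mulSingle G i) with hKi
  have hKimem : ∀ i a, a ∈ Ki i ↔ Pi.mulSingle i a ∈ K := fun i a => Iff.rfl
  have hSK : ∀ i, (S i : Subgroup (G i)) ≤ Ki i := fun i a ha => by
    refine (hKimem i a).2 (hK ((hP _).2 fun j => ?_))
    rcases eq_or_ne j i with rfl | h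
    · simpa using ha
    · simp [Pi.mulSingle_eq_of_ne h]
  set Kp : Subgroup (∀ i, G i) := Subgroup.pi Set.univ Ki with hKp
  have hKpmem : ∀ x, x ∈ Kp ↔ ∀ i, x i ∈ Ki i := fun x => by simp [hKp, Subgroup.mem_pi]
  have hKpK : Kp ≤ K := fun x hx => mem_of_singles fun i => (hKpmem x).1 hx i
  have hPKp : (P : Subgroup (∀ i, G i)) ≤ Kp := fun x hx =>
    (hKpmem x).2 fun i => hSK i ((hP x).1 hx i)
  set N := Subgroup.normalizer ((P : Subgroup (∀ i, G i)) : Set (∀ i, G i)) with hN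
  have hNi : ∀ g ∈ N, ∀ i, g i ∈ Subgroup.normalizer ((S i : Subgroup (G i)) : Set (G i)) := by
    intro g hg i
    refine mem_normalizer_of_forall fun a ha => ?_
    have h : Pi.mulSingle i a ∈ (P : Subgroup (∀ i, G i)) := (hP _).2 fun j => by
      rcases eq_or_ne j i with rfl | h
      · simpa using ha
      · simp [Pi.mulSingle_eq_of_ne h]
    have h' := (hP _).1 ((Subgroup.mem_normalizer_iff.1 hg _).1 h) i
    simpa using h'
  -- the Frattini argument
  have hfrat : ∀ k ∈ K, ∃ x ∈ Kp, ∃ h ∈ K, h ∈ N ∧ k = x * h := by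
    intro k hk
    have hkP : ((k • P : Sylow 2 (∀ i, G i)) : Subgroup (∀ i, G i)) ≤ Kp := by
      rintro _ ⟨y, hy, rfl⟩
      refine (hKpmem _).2 fun i => (hKimem i _).2 ?_
      show Pi.mulSingle i (k i * y i * (k i)⁻¹) ∈ K
      rw [← conj_single]
      exact K.mul_mem (K.mul_mem hk ((hKimem i _).1 (hSK i ((hP y).1 hy i)))) (K.inv_mem hk)
    obtain ⟨x, hx⟩ := MulAction.exists_smul_eq Kp (P.subtype hPKp) ((k • P).subtype hkP)
    rw [Sylow.smul_subtype hPKp] at hx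
    have hx' : (x : ∀ i, G i) • P = k • P := Sylow.subtype_injective hx
    refine ⟨x, x.2, (x : ∀ i, G i)⁻¹ * k, K.mul_mem (K.inv_mem (hKpK x.2)) hk,
      Sylow.smul_eq_iff_mem_normalizer.mp ?_, by group⟩
    rw [mul_smul, ← hx', inv_smul_smul]
  intro g₀
  -- reduce to an element of the normalizer
  set X := K ⊔ cj g₀ K
  have hPX : (P : Subgroup (∀ i, G i)) ≤ X := hK.trans le_sup_left
  obtain ⟨x, hx, g, hg, rfl⟩ : ∃ x ∈ X, ∃ g ∈ N, g₀ = x * g := by
    have hgP : ((g₀ • P : Sylow 2 (∀ i, G i)) : Subgroup (∀ i, G i)) ≤ X :=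
      (cj_mono g₀ hK).trans le_sup_right
    obtain ⟨x, hx⟩ := MulAction.exists_smul_eq X (P.subtype hPX) ((g₀ • P).subtype hgP)
    rw [Sylow.smul_subtype hPX] at hx
    have hx' : (x : ∀ i, G i) • P = g₀ • P := Sylow.subtype_injective hx
    refine ⟨x, x.2, (x : ∀ i, G i)⁻¹ * g₀, Sylow.smul_eq_iff_mem_normalizer.mp ?_, by group⟩
    rw [mul_smul, ← hx', inv_smul_smul]
  suffices h : ∃ y ∈ K ⊔ cj g K, cj g K = cj y K by
    obtain ⟨y, hy, e⟩ := h
    have hsub : K ⊔ cj g K ≤ X := by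
      refine sup_le le_sup_left ?_
      have h1' : cj g K = cj x⁻¹ (cj (x * g) K) := by rw [← cj_cj x g, cj_inv_cj]
      rw [h1', show X = cj x⁻¹ X from
        (mem_normalizer_iff_cj.mp (Subgroup.le_normalizer (inv_mem hx))).symm]
      exact cj_mono _ le_sup_right
    refine ⟨x * y, mul_mem hx (hsub hy), ?_⟩
    show cj (x * g) K = cj (x * y) K
    rw [← cj_cj, e, cj_cj]
  -- the components
  let y : ∀ i, G i := fun i => if g i ∈ Ki i ⊔ cj (g i) (Ki i) then g i else 1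
  have hyJ : ∀ i, y i ∈ Ki i ⊔ cj (g i) (Ki i) := fun i => by
    simp only [y]; split_ifs with h
    · exact h
    · exact one_mem _
  have hycj : ∀ i, cj (g i) (Ki i) = cj (y i) (Ki i) := fun i => by
    simp only [y]; split_ifs with h
    · rfl
    · rw [cj_one]
      exact (h1 i _ (hSK i) _ (hNi g hg i)).resolve_left h
  have hyN : ∀ i, y i ∈ Subgroup.normalizer ((S i : Subgroup (G i)) : Set (G i)) := fun i => by
    simp only [y]; split_ifs with h
    · exact hNi g hg i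
    · exact one_mem _
  refine ⟨y, mem_of_singles fun i => ?_, ?_⟩
  · have hle : Ki i ⊔ cj (g i) (Ki i) ≤ (K ⊔ cj g K).comap (MonoidHom.mulSingle G i) := by
      refine sup_le (fun a ha => (le_sup_left : K ≤ K ⊔ cj g K) ha) ?_
      rintro _ ⟨a, ha, rfl⟩
      refine (le_sup_right : cj g K ≤ K ⊔ cj g K) ⟨Pi.mulSingle i a, ha, ?_⟩
      show g * Pi.mulSingle i a * g⁻¹ = Pi.mulSingle i (g i * a * (g i)⁻¹)
      exact conj_single g i a
    exact hle (hyJ i)
  · refine Subgroup.eq_of_le_of_card_ge (cj_le_iff.2 fun k hk => ?_) (by rw [card_cj, card_cj])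
    obtain ⟨z, hz, h, hhK, hhN, rfl⟩ := hfrat k hk
    have hPy : ∀ p ∈ (P : Subgroup (∀ i, G i)), p ∈ cj y K := fun p hp => by
      rw [mem_cj]
      refine hK ((hP _).2 fun i => ?_)
      simpa using (Subgroup.mem_normalizer_iff.1 (inv_mem (hyN i)) _).1 ((hP p).1 hp i)
    have hh' : h ∈ cj y K := by
      have hc : y * h * y⁻¹ * h⁻¹ ∈ (P : Subgroup (∀ i, G i)) :=
        (hP _).2 fun i => h2 i _ (hyN i) _ (hNi h hhN i)
      have h3 : h = (y * h * y⁻¹ * h⁻¹)⁻¹ * (y * h * y⁻¹) := by group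
      rw [h3]
      exact mul_mem (inv_mem (hPy _ hc)) (conj_mem_cj hhK)
    have hz' : g * z * g⁻¹ ∈ cj y K := by
      refine cj_mono y hKpK ?_
      rw [mem_cj, hKpmem]
      intro i
      have hzi : g i * z i * (g i)⁻¹ ∈ cj (y i) (Ki i) :=
        hycj i ▸ conj_mem_cj ((hKpmem z).1 hz i)
      simpa [mul_assoc] using mem_cj.1 hzi
    have hgh : g * h * g⁻¹ * h⁻¹ ∈ cj y K :=
      hPy _ ((hP _).2 fun i => h2 i _ (hNi g hg i) _ (hNi h hhN i))
    rw [show g * (z * h) * g⁻¹ = g * z * g⁻¹ * (g * h * g⁻¹ * h⁻¹) * h by group]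
    exact mul_mem (mul_mem hz' hgh) hh'

end Cfsg.Agent.Lib.PronormalSp1
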